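import Mathlib.AlgebraicGeometry.Morphisms.Smooth
import Mathlib.AlgebraicGeometry.Morphisms.Flat
import Mathlib.AlgebraicGeometry.Noetherian
import Mathlib.CategoryTheory.Limits.Shapes.Pullback.IsPullback.Basic
import Mathlib.Data.ZMod.Basic
import Mathlib.Algebra.Ring.ULift
import Groth.Prelude.Def_Frob
import Groth.Prelude.Def_Coh
import Groth.Prelude.Def_Omega2
import Groth.Prelude.Def_ExtPow2
import Groth.Prelude.Def_FlatMod2
import Mathlib.AlgebraicGeometry.Morphisms.Proper
import Mathlib.RingTheory.Length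
import Mathlib.LinearAlgebra.Quotient.Basic
import Mathlib.LinearAlgebra.Isomorphisms
import Mathlib.Algebra.Module.Injective
import Mathlib.RingTheory.Artinian.Ring
import Mathlib.LinearAlgebra.TensorProduct.Tower
import Mathlib.RingTheory.TensorProduct.Basic
import Mathlib.AlgebraicGeometry.Morphisms.Smooth

/-!
# Interface for S19531: the statements of the independent pieces
-/

set_option autoImplicit false
universe u
open CategoryTheory CategoryTheory.Limits AlgebraicGeometry
open scoped TensorProduct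

namespace K776.Intf

section Hq

variable {A M N : Type*} [CommRing A] [AddCommGroup M] [AddCommGroup N] [Module A M] [Module A N]

/-- The subquotient `ker f / B`. -/
def Hq (B : Submodule A M) (f : M →ₗ[A] N) : Type _ :=
  ↥(LinearMap.ker f) ⧸ B.submoduleOf (LinearMap.ker f)

noncomputable instance (B : Submodule A M) (f : M →ₗ[A] N) : AddCommGroup (Hq B f) :=
  inferInstanceAs (AddCommGroup (↥(LinearMap.ker f) ⧸ B.submoduleOf (LinearMap.ker f)))

noncomputable instance (B : Submodule A M) (f : M →ₗ[A] N) : Module A (Hq B f) :=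
  inferInstanceAs (Module A (↥(LinearMap.ker f) ⧸ B.submoduleOf (LinearMap.ker f)))

end Hq

/-- A bounded cochain complex of finite projective modules, in nonnegative degrees. -/
structure Cpx (R : Type u) [CommRing R] where
  /-- the terms -/
  P : ℕ → Type u
  [grp : ∀ j, AddCommGroup (P j)]
  [mod : ∀ j, Module R (P j)]
  fin : ∀ j, Module.Finite R (P j)
  proj : ∀ j, Module.Projective R (P j)
  /-- a bound -/
  N : ℕ
  zero : ∀ j, N < j → Subsingleton (P j)
  /-- the differential -/
  d : ∀ j, P j →ₗ[R] P (j + 1)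
  dd : ∀ j x, d (j + 1) (d j x) = 0

attribute [instance] Cpx.grp Cpx.mod

variable {R : Type u} [CommRing R] (C : Cpx R)

section
variable (A : Type u) [CommRing A] [Algebra R A]

/-- The boundaries of `A ⊗ C`. -/
noncomputable def Cpx.bd : ∀ j : ℕ, Submodule A (A ⊗[R] C.P j)
  | 0 => ⊥
  | j + 1 => LinearMap.range ((C.d j).baseChange A)

/-- The cohomology of `A ⊗ C`. -/
abbrev Cpx.HA (j : ℕ) : Type u := Hq (C.bd A j) ((C.d j).baseChange A)
end

/-- The cohomology of the base change along a ring homomorphism. -/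
def Cpx.H {A : Type u} [CommRing A] (φ : R →+* A) (j : ℕ) : Type u :=
  @Cpx.HA R _ C A _ φ.toAlgebra j

noncomputable instance {A : Type u} [CommRing A] (φ : R →+* A) (j : ℕ) : AddCommGroup (C.H φ j) :=
  inferInstanceAs (AddCommGroup (@Cpx.HA R _ C A _ φ.toAlgebra j))

noncomputable instance {A : Type u} [CommRing A] (φ : R →+* A) (j : ℕ) : Module A (C.H φ j) :=
  inferInstanceAs (Module A (@Cpx.HA R _ C A _ φ.toAlgebra j))

/-- Cohomology as a module over the base ring. -/
@[reducible] noncomputable def modHH {A : Type u} [CommRing A] {Y : Scheme.{u}}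
    (q : Y ⟶ Spec (CommRingCat.of A)) (M : Y.Modules) (j : ℕ) : Module A (Coh.HH Y M j) :=
  letI : Y.Over (Spec (CommRingCat.of A)) := ⟨q⟩
  inferInstanceAs (Module A (Coh.HH Y M j))

/-- The length of the cohomology over the base ring. -/
noncomputable def len {A : Type u} [CommRing A] {Y : Scheme.{u}}
    (q : Y ⟶ Spec (CommRingCat.of A)) (M : Y.Modules) (j : ℕ) : ℕ∞ :=
  letI := modHH q M j
  Module.length A (Coh.HH Y M j)

/-- **(GC)** Cohomology and base change in terms of one complex. -/
def GCStmt : Prop := ∀ (R : Type u) [CommRing R] [IsNoetherianRing R] (X : Scheme.{u})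
    (f : X ⟶ Spec (CommRingCat.of R)) [IsProper f] (F : X.Modules), Coh.IsCoh F → FlatMod.IsFlatOver f F →
    ∃ C : Cpx R, ∀ (A : Type u) [CommRing A] (φ : R →+* A) (Y : Scheme.{u}) (g : Y ⟶ X)
      (q : Y ⟶ Spec (CommRingCat.of A)), IsPullback g q f (Spec.map (CommRingCat.ofHom φ)) → ∀ j : ℕ,
      letI := modHH q ((Scheme.Modules.pullback g).obj F) j
      Nonempty (C.H φ j ≃ₗ[A] Coh.HH Y ((Scheme.Modules.pullback g).obj F) j)

/-- **(DU)** Duality for smooth proper schemes over a self-injective artinian local ring. -/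
def DualStmt : Prop := ∀ (A : Type u) [CommRing A] [IsLocalRing A] [IsArtinianRing A], Module.Injective A A →
    ∀ (d : ℕ) (Y : Scheme.{u}) (q : Y ⟶ Spec (CommRingCat.of A)) [IsProper q] [SmoothOfRelativeDimension d q]
      (Om : ℕ → Y.Modules), (∀ a, ExtPow.IsExtPow a (Omega.sheaf q) (Om a)) →
      (∀ a a' j j' : ℕ, a + a' = d → j + j' = d → len q (Om a) j = len q (Om a') j') ∧
      (∀ a j : ℕ, d < a ∨ d < j → Subsingleton (Coh.HH Y (Om a) j))

/-- **(CR)** The algebraic criterion. -/
def CRStmt : Prop := ∀ (R : Type u) [CommRing R] [IsNoetherianRing R] (p : ℕ) [Fact p.Prime] [CharP R p]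
    (d : ℕ), d ≤ p → ∀ (C : ℕ → Cpx R),
    (∀ (A : Type u) [CommRing A] [IsLocalRing A] [IsArtinianRing A] [CharP A p] (φ : R →+* A),
      Function.Surjective φ → ∀ n < p,
      ∑ a ∈ Finset.range (n + 1), Module.length A ((C a).H ((frobenius A p).comp φ) (n - a)) ≤
        ∑ a ∈ Finset.range (n + 1), Module.length A ((C a).H φ (n - a))) →
    (∀ (A : Type u) [CommRing A] [IsLocalRing A] [IsArtinianRing A] (φ : R →+* A),
      Function.Surjective φ → Module.Injective A A → ∀ a a' j j' : ℕ, a + a' = d → j + j' = d →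
      Module.length A ((C a).H φ j) = Module.length A ((C a').H φ j')) →
    (∀ (A : Type u) [Field A] (φ : R →+* A), Function.Surjective φ →
      ∀ a j : ℕ, d < a ∨ d < j → Subsingleton ((C a).H φ j)) →
    ∀ a j : ℕ, Module.Projective R ((C a).H (RingHom.id R) j)

/-- The hypotheses of the theorem over an affine base, in fixed relative dimension. -/
structure Setup (p : ℕ) [Fact p.Prime] (R : Type u) [CommRing R] [CharP R p] where
  /-- the lifting of the base -/
  Rt : Type u
  [ring : CommRing Rt]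
  /-- the reduction -/
  π : Rt →+* R
  surj : Function.Surjective π
  ker : ∀ r : Rt, π r = 0 ↔ ∃ b, r = (p : Rt) * b
  pp : (p : Rt) * (p : Rt) = 0
  flat : ∀ b : Rt, (p : Rt) * b = 0 → π b = 0
  /-- the scheme -/
  X : Scheme.{u}
  /-- the structure map -/
  f : X ⟶ Spec (CommRingCat.of R)
  [proper : IsProper f]
  /-- the relative dimension -/
  d : ℕ
  [smooth : SmoothOfRelativeDimension d f]
  /-- the Frobenius twist -/
  X' : Scheme.{u}
  /-- the projection -/
  w : X' ⟶ X
  /-- the structure map of the twist -/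
  f' : X' ⟶ Spec (CommRingCat.of R)
  hX' : IsPullback w f' f (Spec.map (CommRingCat.ofHom (frobenius R p)))
  /-- the lifting of the twist -/
  Xl' : Scheme.{u}
  /-- its structure map -/
  g' : Xl' ⟶ Spec (CommRingCat.of Rt)
  [flat' : Flat g']
  /-- the inclusion -/
  j' : X' ⟶ Xl'
  hlift : IsPullback j' f' g' (Spec.map (CommRingCat.ofHom π))
  /-- the exterior powers -/
  Om : ℕ → X.Modules
  hOm : ∀ a, ExtPow.IsExtPow a (Omega.sheaf f) (Om a)

/-- **(I2)** The inequality over artinian quotients of the base. -/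
def I2Stmt : Prop := ∀ (p : ℕ) [Fact p.Prime] (R : Type u) [CommRing R] [IsNoetherianRing R] [CharP R p]
    (s : Setup p R) (A : Type u) [CommRing A] [IsLocalRing A] [IsArtinianRing A] [CharP A p] (φ : R →+* A),
    Function.Surjective φ →
    ∀ (Y : Scheme.{u}) (g : Y ⟶ s.X) (q : Y ⟶ Spec (CommRingCat.of A)),
      IsPullback g q s.f (Spec.map (CommRingCat.ofHom φ)) →
    ∀ (Y' : Scheme.{u}) (g' : Y' ⟶ s.X) (q' : Y' ⟶ Spec (CommRingCat.of A)),
      IsPullback g' q' s.f (Spec.map (CommRingCat.ofHom ((frobenius A p).comp φ))) →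
    ∀ n < p, ∑ a ∈ Finset.range (n + 1), len q' ((Scheme.Modules.pullback g').obj (s.Om a)) (n - a) ≤
      ∑ a ∈ Finset.range (n + 1), len q ((Scheme.Modules.pullback g).obj (s.Om a)) (n - a)

/-- The theorem over an affine base, in fixed relative dimension. -/
def AffMain : Prop := ∀ (p : ℕ) [Fact p.Prime] (R : Type u) [CommRing R] [IsNoetherianRing R] [CharP R p]
    (s : Setup p R), s.d ≤ p → ∀ a j : ℕ,
    letI := modHH s.f (s.Om a) j
    Module.Projective R (Coh.HH s.X (s.Om a) j)

/-- **(FA)** Reduction to an affine base and fixed relative dimension. -/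
def FAStmt : Prop := AffMain.{u} → ∀ (p : ℕ) [Fact p.Prime]
    (Sl : Scheme.{u}) (gS : Sl ⟶ Spec (CommRingCat.of (ULift.{u} (ZMod (p ^ 2))))) [Flat gS]
    (S : Scheme.{u}) (iS : S ⟶ Sl) (fS : S ⟶ Spec (CommRingCat.of (ULift.{u} (ZMod p))))
    (_ : IsPullback iS fS gS (Spec.map (CommRingCat.ofHom
      ((ZMod.castHom (dvd_pow_self p two_ne_zero) (ULift.{u} (ZMod p))).comp
        (ULift.ringEquiv : ULift.{u} (ZMod (p ^ 2)) ≃+* ZMod (p ^ 2)).toRingHom))))
    [IsNoetherian S] [FrobSch.IsCharP S p]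
    (X : Scheme.{u}) (f : X ⟶ S) [Smooth f] [IsProper f]
    (Om : ℕ → X.Modules) (_ : ∀ a, ExtPow.IsExtPow a (Omega.sheaf f) (Om a))
    (_ : IsZero (Om (p + 1)))
    (Xl' : Scheme.{u}) (g' : Xl' ⟶ Sl) [Flat g'] (j' : FrobSch.frobTwist f p ⟶ Xl')
    (_ : IsPullback j' (pullback.snd f (FrobSch.frob S p)) g' iS)
    [HasInjectiveResolutions X.Modules] (a b : ℕ),
    FlatMod.IsFinLocFree ((Coh.Rpush f b).obj (Om a))

end K776.Intf
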