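import Groth.Agent.DelIll.K776.RAlt
import Groth.Agent.DelIll.K912.AltProp

/-!
# Properties of the relative Deligne-Illusie map
-/

set_option autoImplicit false

namespace K776.RAlt

open K912.Seq K912.Cx K912.Op
open scoped Nat

variable {ι R' R L' L : Type*} [CommRing R'] [CommRing R] [AddCommGroup L'] [Module R' L']
  [AddCommGroup L] [Module R L] (X : Dat ι R' R L' L)

theorem D_φ_smul (b : R') (x : T ι (ExteriorAlgebra R L)) :
    D X.d (X.φ b • x) = X.φ b • D X.d x := D_smul X.d _ (X.d_φ b) x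

/-- The Deligne-Illusie map as an additive map. -/
noncomputable def Ψ : ExteriorAlgebra R' L' →+ T ι (ExteriorAlgebra R L) where
  toFun g := un (psi X g)
  map_zero' := map_zero (psi X)
  map_add' g g' := map_add (psi X) g g'

theorem Ψ_smul (b : R') (g : ExteriorAlgebra R' L') : Ψ X (b • g) = X.φ b • Ψ X g :=
  map_smul (psi X) b g

theorem Ψ_ιMulti (a : ℕ) (v : Fin a → L') : Ψ X (ExteriorAlgebra.ιMulti R' a v) =
    ∑ σ : Equiv.Perm (Fin a), Equiv.Perm.sign σ • prodL X (fun j => v (σ j)) := by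
  change un (psi X _) = _
  rw [psi_ιMulti, psiA_apply]
  rfl

theorem Ψ_ιMulti_apply (a : ℕ) (v : Fin a → L') (n : ℕ) (i : ℕ → ι) :
    Ψ X (ExteriorAlgebra.ιMulti R' a v) n i =
    ∑ σ : Equiv.Perm (Fin a), Equiv.Perm.sign σ • prodL X (fun j => v (σ j)) n i := by
  rw [Ψ_ιMulti, Finset.sum_apply, Finset.sum_apply]
  rfl

theorem span_aux (g : ExteriorAlgebra R' L') : g ∈ Submodule.span R'
      (Set.range fun x : Σ n, (Fin n → L') => ExteriorAlgebra.ιMulti R' x.1 x.2) := by
  rw [ExteriorAlgebra.ιMulti_span]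
  trivial

theorem D_Ψ (g : ExteriorAlgebra R' L') : D X.d (Ψ X g) = 0 := by
  have hg := span_aux g
  induction hg using Submodule.span_induction with
  | mem x hx =>
    obtain ⟨⟨a, v⟩, rfl⟩ := hx
    dsimp only
    rw [Ψ_ιMulti, D_sum]
    refine Finset.sum_eq_zero fun σ _ => ?_
    rcases Int.units_eq_one_or (Equiv.Perm.sign σ) with h | h
    · rw [h, one_smul, D_prodL]
    · rw [h, Units.neg_smul, one_smul, D_neg, D_prodL, neg_zero]
  | zero => rw [map_zero, D_zero]
  | add x y _ _ hx hy => rw [map_add, D_add, hx, hy, add_zero]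
  | smul b x _ hx => rw [Ψ_smul, D_φ_smul, hx, smul_zero]

theorem dep_Ψ (g : ExteriorAlgebra R' L') (n : ℕ) : Dep n (Ψ X g n) := by
  have hg := span_aux g
  induction hg using Submodule.span_induction with
  | mem x hx =>
    obtain ⟨⟨a, v⟩, rfl⟩ := hx
    intro i i' hi
    dsimp only
    rw [Ψ_ιMulti_apply, Ψ_ιMulti_apply]
    refine Finset.sum_congr rfl fun σ _ => ?_
    rw [dep_prodL X _ n i i' hi]
  | zero =>
    rw [map_zero]
    exact fun _ _ _ => rfl
  | add x y _ _ hx hy =>
    intro i i' hi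
    rw [map_add]
    change Ψ X x n i + Ψ X y n i = Ψ X x n i' + Ψ X y n i'
    rw [hx i i' hi, hy i i' hi]
  | smul b x _ hx =>
    intro i i' hi
    rw [Ψ_smul]
    change X.φ b • Ψ X x n i = X.φ b • Ψ X x n i'
    rw [hx i i' hi]

/-- The value in Čech degree `0` is `a!` times the ring homomorphism induced by `f i`. -/
theorem Ψ_apply_zero (F : ι → ExteriorAlgebra R' L' →+* ExteriorAlgebra R L)
    (hF : ∀ i b, F i (algebraMap R' _ b) = algebraMap R _ (X.φ b))
    (hFι : ∀ i w, F i (ExteriorAlgebra.ι R' w) = ExteriorAlgebra.ι R (X.f i w)) (a : ℕ)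
    {g : ExteriorAlgebra R' L'} (hg : g ∈ ⋀[R']^a L') (i : ℕ → ι) : Ψ X g 0 i = a ! • F (i 0) g := by
  have hg' : g ∈ Submodule.span R' (Set.range (ExteriorAlgebra.ιMulti R' a (M := L'))) := by
    rwa [ExteriorAlgebra.ιMulti_span_fixedDegree]
  have hFM : ∀ v : Fin a → L', F (i 0) (ExteriorAlgebra.ιMulti R' a v) =
      ExteriorAlgebra.ιMulti R a (fun j => X.f (i 0) (v j)) := by
    intro v
    rw [ExteriorAlgebra.ιMulti_apply, ExteriorAlgebra.ιMulti_apply, map_list_prod, List.map_ofFn]
    congr 2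
    funext j
    exact hFι _ _
  induction hg' using Submodule.span_induction with
  | mem x hx =>
    obtain ⟨v, rfl⟩ := hx
    rw [Ψ_ιMulti_apply, hFM]
    have h1 : ∀ σ : Equiv.Perm (Fin a), Equiv.Perm.sign σ • prodL X (fun j => v (σ j)) 0 i =
        ExteriorAlgebra.ιMulti R a (fun j => X.f (i 0) (v j)) := by
      intro σ
      rw [prodL_apply_zero]
      have h2 := AlternatingMap.map_perm (ExteriorAlgebra.ιMulti R a (M := L))
        (fun j => X.f (i 0) (v j)) σ
      change ExteriorAlgebra.ιMulti R a (fun j => X.f (i 0) (v (σ j))) = _ at h2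
      rw [h2, smul_smul, Int.units_mul_self, one_smul]
    rw [Finset.sum_congr rfl fun σ _ => h1 σ, Finset.sum_const, Finset.card_univ, Fintype.card_perm,
      Fintype.card_fin]
  | zero =>
    rw [map_zero, map_zero, smul_zero]
    rfl
  | add x y hx hy ihx ihy =>
    rw [ExteriorAlgebra.ιMulti_span_fixedDegree] at hx hy
    rw [map_add, map_add, smul_add, ← ihx hx, ← ihy hy]
    rfl
  | smul b x hx ih =>
    rw [ExteriorAlgebra.ιMulti_span_fixedDegree] at hx
    rw [Ψ_smul]
    change X.φ b • Ψ X x 0 i = _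
    rw [ih hx, Algebra.smul_def b x, map_mul, hF, ← Algebra.smul_def, smul_comm]

section Lat

open K912.Alt (lat latZ lat_mono latZ_mono smul_ιMulti_mem lat_le_exteriorPower ι_mul_mem_Z
  smul_mem_latZ latZ_natCast latZ_neg)

variable {k : Type*} [Field k] [Algebra k R'] [Module k L'] [IsScalarTower k R' L']
  [Algebra k R] [Module k L] [IsScalarTower k R L]

/-- `k`-linearity. -/
theorem Ψ_smul_k (hk : ∀ t : k, X.φ (algebraMap k R' t) = algebraMap k R t) (t : k)
    (g : ExteriorAlgebra R' L') : Ψ X (t • g) = t • Ψ X g := by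
  rw [← algebraMap_smul R' t g, Ψ_smul, hk]
  funext n i
  exact algebraMap_smul R t _

omit [Module k L'] [IsScalarTower k R' L'] in
/-- `k`-linearity of the differential. -/
theorem d_smul_k (hk : ∀ t : k, X.φ (algebraMap k R' t) = algebraMap k R t) (t : k)
    (x : ExteriorAlgebra R L) : X.d (t • x) = t • X.d x := by
  rw [← algebraMap_smul R t x, ← algebraMap_smul R t (X.d x), ← hk, X.d_φ]

/-- The Deligne-Illusie map preserves the lattices. -/
theorem Ψ_mem (hk : ∀ t : k, X.φ (algebraMap k R' t) = algebraMap k R t)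
    (A' : Subalgebra k R') (N' : Submodule k L') (A : Subalgebra k R) (N : Submodule k L) (s : Set ι)
    (hφ : ∀ b ∈ A', X.φ b ∈ A) (hf : ∀ i ∈ s, ∀ w ∈ N', X.f i w ∈ N)
    (hh : ∀ i ∈ s, ∀ j ∈ s, ∀ w ∈ N', X.h i j w ∈ A)
    (a : ℤ) {g : ExteriorAlgebra R' L'} (hg : g ∈ latZ (Subalgebra.toSubmodule A') N' a) (n : ℕ)
    (i : ℕ → ι) (hi : rg n i ⊆ s) : Ψ X g n i ∈ latZ (Subalgebra.toSubmodule A) N (a - n) := by
  cases a with
  | negSucc a =>
    rw [(Submodule.mem_bot k).1 hg, map_zero]
    exact Submodule.zero_mem _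
  | ofNat a =>
    change g ∈ lat (Subalgebra.toSubmodule A') N' a at hg
    induction hg using Submodule.span_induction with
    | mem x hx =>
      obtain ⟨q, hq, v, hv, rfl⟩ := hx
      rw [Ψ_smul]
      change X.φ q • Ψ X _ n i ∈ _
      refine smul_mem_latZ (Q := Subalgebra.toSubmodule A)
        (fun q' hq' => A.mul_mem (hφ q hq) hq') _ ?_
      rw [Ψ_ιMulti_apply]
      refine Submodule.sum_mem _ fun σ _ => ?_
      have h1 : prodL X (fun j => v (σ j)) n i ∈
          (latZ (Subalgebra.toSubmodule A) N ((a : ℤ) - n)).toAddSubgroup := by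
        refine prodL_mem X (s := s) (N := N')
          (Q := fun a => (latZ (Subalgebra.toSubmodule A) N a).toAddSubgroup) ?_ ?_ ?_ _
          (fun j => hv _) n i hi
        · have h2 : (1 : ExteriorAlgebra R L) = (1 : R) • ExteriorAlgebra.ιMulti R 0 (fun _ => (0 : L)) := by
            rw [one_smul, ExteriorAlgebra.ιMulti_apply, List.ofFn_zero, List.prod_nil]
          rw [h2]
          exact smul_ιMulti_mem (a := 0) (A.one_mem) (fun j => j.elim0)
        · intro i hi w hw a x hx
          exact ι_mul_mem_Z (hf i hi w hw) a hx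
        · intro i hi j hj w hw a x hx
          exact smul_mem_latZ (Q := Subalgebra.toSubmodule A)
            (fun q' hq' => A.mul_mem (hh i hi j hj w hw) hq') _ hx
      rcases Int.units_eq_one_or (Equiv.Perm.sign σ) with h | h
      · rw [h, one_smul]
        exact h1
      · rw [h, Units.neg_smul, one_smul]
        exact Submodule.neg_mem _ h1
    | zero =>
      rw [map_zero]
      exact Submodule.zero_mem _
    | add x y _ _ hx hy =>
      rw [map_add]
      exact Submodule.add_mem _ hx hy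
    | smul t x _ hx =>
      rw [Ψ_smul_k X hk]
      exact Submodule.smul_mem _ _ hx

end Lat

end K776.RAlt
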