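import Groth.Agent.DelIll.K776.RComp

/-!
# The geometric data of one component, existence
-/

set_option autoImplicit false
set_option linter.unusedSectionVars false
universe u

open CategoryTheory CategoryTheory.Limits AlgebraicGeometry Opposite TopologicalSpace
open Groth.Agent.Sga67.Sec Groth.Agent.Sga67.LocBasis Groth.Agent.Fga.MumCech
open K905.GeoX K905.GeoUp K922.Coord K224.RelGD K224.RelBase K224.RelCartier K224.RelGeom
open K776.RCh K776.RTw K776.RLam K776.RDat K776.RCtx K776.RTop K776.RGeo K776.RSide K776.RLoc K776.RComp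
open K912.LatCmp K912.Frame

namespace K776.RCGeo

variable {p : ℕ} [hp : Fact p.Prime] {Rt R : Type u} [CommRing Rt] [CommRing R] [CharP R p] {π : Rt →+* R}
  {X X' Xl : Scheme.{u}} [FrobSch.IsCharP X p] {f : X ⟶ Spec (CommRingCat.of R)} {w : X' ⟶ X}
  {f' : X' ⟶ Spec (CommRingCat.of R)} {F : X ⟶ X'} {j : X' ⟶ Xl} {gl : Xl ⟶ Spec (CommRingCat.of Rt)}
  (H : IsCtx p π f w f' F j gl)
  {A : Type u} [CommRing A] [CharP A p] {φ : R →+* A} {Y Y' : Scheme.{u}} [FrobSch.IsCharP Y p] {g : Y ⟶ X}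
  {q : Y ⟶ Spec (CommRingCat.of A)} {wA : Y' ⟶ Y} {q' : Y' ⟶ Spec (CommRingCat.of A)} {FA : Y ⟶ Y'}
  (hg : IsPullback g q f (Spec.map (CommRingCat.ofHom φ))) (HT : IsTw p q wA q' FA)
  {Ω₁ : Y.Modules} {δ : OmegaSh.Der q Ω₁} (hδ : OmegaSh.IsUniversal δ)
  {Ω₂ : Y'.Modules} {δ' : OmegaSh.Der q' Ω₂} (hδ' : OmegaSh.IsUniversal δ')
  {d : ℕ} {ι : Type u} [Finite ι] (c : CData f g d ι)

section tr

theorem ex_resO {Y : Scheme.{u}} {V W O : Y.Opens} (e : O = W) (h : V ≤ W) (h' : V ≤ O) (t : Γ(Y, V)) :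
    (∃ b, resO Y h' b = t) ↔ ∃ b, resO Y h b = t := by
  subst e; rfl

theorem ex_res {Y : Scheme.{u}} (E : Y.Modules) {V W O : Y.Opens} (e : O = W) (h : V ≤ W) (h' : V ≤ O)
    (t : Sec E V) : (∃ b, res E h' b = t) ↔ ∃ b, res E h b = t := by
  subst e; rfl

end tr

/-- Restriction of the fibre products. -/
noncomputable abbrev rP {V W : X.Opens} (h : W ≤ V) : P (H.G V) →+* P (H.G W) := (mor (gm H.geo h)).fP

theorem rP_snd {V W : X.Opens} (h : W ≤ V) (x : P (H.G V)) : (rP H h x).1.2 = resO X h x.1.2 := rfl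

theorem rP_rP {U V W : X.Opens} (h : V ≤ U) (h' : W ≤ V) (h'' : W ≤ U) (x : P (H.G U)) :
    rP H h' (rP H h x) = rP H h'' x := by
  refine Subtype.ext (Prod.ext ?_ ?_)
  · exact map_homOfLE_comp _ _ _ x.1.1
  · exact map_homOfLE_comp _ _ _ x.1.2

/-- The restriction data. -/
noncomputable def resData {Y : Scheme.{u}} (E : Y.Modules) {V W : Y.Opens} (h : V ≤ W) :
    Res Γ(Y, W) Γ(Y, V) (Sec E W) (Sec E V) where
  ρ := resO Y h
  g := (res E h : Sec E W →+ Sec E V)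
  g_smul b m := Groth.Agent.Sga67.Sec.res_smul E h b m

theorem resO_gw {V W : Y.Opens} (h : W ≤ V) (h' : wA ⁻¹ᵁ W ≤ wA ⁻¹ᵁ V) (a : Γ(Y, V)) :
    resO Y' h' (gw wA V a) = gw wA W (resO Y h a) := res_appLE wA le_rfl le_rfl h h' a

theorem resO_gF {V W : Y.Opens} (h : W ≤ V) (h' : wA ⁻¹ᵁ W ≤ wA ⁻¹ᵁ V) (a : Γ(Y', wA ⁻¹ᵁ V)) :
    resO Y h (gF HT.geo V a) = gF HT.geo W (resO Y' h' a) :=
  res_appLE FA (le_F HT.geo V) (le_F HT.geo W) h' h a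

variable (k : Type u) [Field k]

attribute [local instance] algV modS

include H in
/-- **The geometric data of one component.** -/
theorem exists_geo [X.IsSeparated] [Nonempty ι] [Y.Over (Spec (CommRingCat.of k))]
    [Y'.Over (Spec (CommRingCat.of k))] (κ : k →+* A)
    (oY : (Y ↘ Spec (CommRingCat.of k)) = q ≫ Spec.map (CommRingCat.ofHom κ))
    (oY' : (Y' ↘ Spec (CommRingCat.of k)) = q' ≫ Spec.map (CommRingCat.ofHom κ)) :
    Nonempty (Geo p (sideY hg hδ c k) (sideY' hg HT hδ hδ' c k)) := by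
  classical
  have : Nonempty (g ⁻¹ᵁ c.V) := ⟨⟨c.y₀, c.hy₀⟩⟩
  have hx₀ : g c.y₀ ∈ c.V := c.hy₀
  -- the lifts of the coordinates
  choose xt hxt using fun i l => H.exists_lift (c.affU i) (c.v i l)
  -- the functions over `V`
  choose lam hlam h0 using fun i => H.exists_lam (g c.y₀) hx₀ ((c.ch i).restrict c.affV (c.le i))
    (fun l => rP H (c.le i) (xt i l)) (fun l => by rw [rP_snd, hxt])
  have hchar : CharP Γ(Y, g ⁻¹ᵁ c.V) p := K224.RelCov.charP_of _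
  obtain ⟨D, E, hD, hE, hDE, hcoc, hEy, hDx⟩ := exists_DE H c.affV (fun i l => resO X (c.le i) (c.v i l))
    (fun i l => rP H (c.le i) (xt i l)) (fun i l => by rw [rP_snd, hxt]) lam hlam h0
    (tt g c.V) (CharP.cast_eq_zero _ p) (δ := K922.DSec.dS δ (g ⁻¹ᵁ c.V)) (K922.DSec.dS_mul δ _)
    (fun r => by rw [tt_co hg, dS_co])
  let T := mkTop hg HT hδ hδ' c.y₀ c.hy₀ (fun i l => resO X (c.le i) (c.v i l))
    (fun i => (c.ch i).restrict c.affV (c.le i)) D E hD hE hDE hcoc hEy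
  have : Nonempty (wA ⁻¹ᵁ (g ⁻¹ᵁ c.V) : Y'.Opens) := ⟨⟨FA c.y₀, le_F HT.geo _ c.hy₀⟩⟩
  have hIY' : FrobSch.IsCharP Y' p := FrobSch.IsCharP.of_hom wA p
  have hchar' : CharP Γ(Y', wA ⁻¹ᵁ (g ⁻¹ᵁ c.V)) p := K224.RelCov.charP_of _
  have t1 : IsScalarTower k Γ(Y', wA ⁻¹ᵁ (g ⁻¹ᵁ c.V)) (Sec Ω₂ (wA ⁻¹ᵁ (g ⁻¹ᵁ c.V))) := tower k Ω₂ _
  have t2 : IsScalarTower k Γ(Y, g ⁻¹ᵁ c.V) (Sec Ω₁ (g ⁻¹ᵁ c.V)) := tower k Ω₁ _
  have hk : ∀ t : k, T.φ (algebraMap k Γ(Y', wA ⁻¹ᵁ (g ⁻¹ᵁ c.V)) t) = algebraMap k Γ(Y, g ⁻¹ᵁ c.V) t := by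
    intro t
    have e1 : algebraMap k Γ(Y', wA ⁻¹ᵁ (g ⁻¹ᵁ c.V)) t = co q' _ (κ t) := by
      rw [← co_over, ← oY']
      rfl
    have e2 : algebraMap k Γ(Y, g ⁻¹ᵁ c.V) t = co q _ (κ t) := by
      rw [← co_over, ← oY]
      rfl
    rw [e1, e2]
    exact HT.gF_co _ _
  let A₂ : Set ι → Subalgebra k Γ(Y', wA ⁻¹ᵁ (g ⁻¹ᵁ c.V)) := (sideY' hg HT hδ hδ' c k).As
  let N₂ : Set ι → Submodule k (Sec Ω₂ (wA ⁻¹ᵁ (g ⁻¹ᵁ c.V))) := (sideY' hg HT hδ hδ' c k).Ns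
  let A₁ : Set ι → Subalgebra k Γ(Y, g ⁻¹ᵁ c.V) := (sideY hg hδ c k).As
  let N₁ : Set ι → Submodule k (Sec Ω₁ (g ⁻¹ᵁ c.V)) := (sideY hg hδ c k).Ns
  have hloc : ∀ s : Set ι, s.Nonempty → T.Loc s (A₂ s) (N₂ s) (A₁ s) (N₁ s) := by
    intro s hs
    obtain ⟨i₁, hi₁⟩ := hs
    have hW := c.affUs s ⟨i₁, hi₁⟩
    have hVW : c.V ≤ Us c.U s := le_Us c.U c.le s
    have hx₁ : g c.y₀ ∈ Us c.U s := hVW hx₀
    have hle := fun i : s => Us_le c.U i.2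
    choose lamW hlamW h0W using fun i : s => H.exists_lam (g c.y₀) hx₁ ((c.ch i).restrict hW (hle i))
      (fun l => rP H (hle i) (xt i l)) (fun l => by rw [rP_snd, hxt])
    have hcomp : ∀ (i : s) (x : P (H.G (Us c.U s))), lam i (rP H hVW x) = resO X hVW (lamW i x) := by
      intro i x
      refine H.compat hVW (g c.y₀) hx₀ ((c.ch i).restrict hW (hle i)) (xt := fun l => rP H (hle i) (xt i l))
        (fun l => by rw [rP_snd, hxt]) (hlamW i) (h0W i) (hlam i) (fun l => ?_) x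
      have := h0 i l
      rwa [← rP_rP H (hle i) hVW] at this
    let pick : ι → s := fun i => if h : i ∈ s then ⟨i, h⟩ else ⟨i₁, hi₁⟩
    have hpick : ∀ i (h : i ∈ s), pick i = ⟨i, h⟩ := fun i h => dif_pos h
    have ech := fun i : s => ((c.ch i).restrict hW (hle i)).baseChange hg
    have hy₁ : c.y₀ ∈ g ⁻¹ᵁ (Us c.U s) := hx₁
    have : Nonempty (wA ⁻¹ᵁ (g ⁻¹ᵁ (Us c.U s)) : Y'.Opens) := ⟨⟨FA c.y₀, le_F HT.geo _ hy₁⟩⟩
    have hcharW : CharP Γ(Y', wA ⁻¹ᵁ (g ⁻¹ᵁ (Us c.U s))) p := K224.RelCov.charP_of _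
    have hres : g ⁻¹ᵁ c.V ≤ g ⁻¹ᵁ (Us c.U s) := c.le_pre s
    have hres' : wA ⁻¹ᵁ (g ⁻¹ᵁ c.V) ≤ wA ⁻¹ᵁ (g ⁻¹ᵁ (Us c.U s)) := le_pre' hres
    have eU : Us (fun i => wA ⁻¹ᵁ (g ⁻¹ᵁ (c.U i))) s = wA ⁻¹ᵁ (g ⁻¹ᵁ (Us c.U s)) := by
      rw [pre_Us c.U g, pre_Us]
    refine T.mkLoc (resData Ω₁ hres) (resData Ω₂ hres') (gF HT.geo (g ⁻¹ᵁ (Us c.U s)))
      (K922.DSec.dS δ (g ⁻¹ᵁ (Us c.U s)))
      (fun i l => tt g (Us c.U s) (resO X (hle (pick i)) (c.v (pick i) l)))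
      (fun i => bas hδ (ech (pick i))) (fun i => bas hδ' (HT.etCh (ech (pick i)))) ⟨i₁, hi₁⟩
      (fun i _ => HT.rchart hδ c.y₀ hy₁ (ech (pick i))) ?_ ?_ ?_ ?_ ?_ ?_ ?_ ?_ ?_ ?_ ?_
    · intro b
      exact (resO_gF HT hres hres' b).symm
    · exact c.injUs s ⟨i₁, hi₁⟩ hres
    · intro b
      exact K922.DSec.dS_res δ hres b
    · intro i hi l
      rw [hpick i hi]
      exact (tt_res hVW hres _).trans (congrArg (tt g c.V) (resO_resO _ _ _))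
    · intro i hi l
      rw [hpick i hi]
      refine (congrArg (res Ω₁ hres) (RTw.bas_apply hδ (ech ⟨i, hi⟩) l)).trans
        ((K922.DSec.dS_res δ hres _).trans (Eq.trans (congrArg (K922.DSec.dS δ (g ⁻¹ᵁ c.V)) ?_)
          (RTw.bas_apply hδ (((c.ch i).restrict c.affV (c.le i)).baseChange hg) l).symm))
      exact (tt_res hVW hres _).trans (congrArg (tt g c.V) (resO_resO _ _ _))
    · intro i hi l
      rw [hpick i hi]
      refine (congrArg (res Ω₂ hres') (RTw.bas_apply hδ' (HT.etCh (ech ⟨i, hi⟩)) l)).trans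
        ((K922.DSec.dS_res δ' hres' _).trans (Eq.trans (congrArg (K922.DSec.dS δ' (wA ⁻¹ᵁ (g ⁻¹ᵁ c.V))) ?_)
          (RTw.bas_apply hδ' (HT.etCh (((c.ch i).restrict c.affV (c.le i)).baseChange hg)) l).symm))
      refine (resO_gw hres hres' _).trans (congrArg (gw wA (g ⁻¹ᵁ c.V)) ?_)
      exact (tt_res hVW hres _).trans (congrArg (tt g c.V) (resO_resO _ _ _))
    · intro i hi j hj l
      let xW := rP H (hle ⟨i, hi⟩) (xt i l)
      refine ⟨tt g _ (lamW ⟨j, hj⟩ xW - lamW ⟨i, hi⟩ xW), ?_⟩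
      refine (tt_res hVW hres _).trans ?_
      have e1 : rP H hVW xW = rP H (c.le i) (xt i l) := rP_rP H _ _ _ _
      have e2 := hDx i j (rP H (c.le i) (xt i l))
      have e3 : (rP H (c.le i) (xt i l)).1.2 = resO X (c.le i) (c.v i l) := by rw [rP_snd, hxt]
      rw [e3] at e2
      refine Eq.trans ?_ e2.symm
      rw [map_sub, ← hcomp, ← hcomp, e1]
    · intro t
      exact ex_resO (pre_Us c.U g s).symm hres _ t
    · intro l
      exact ex_res Ω₁ (pre_Us c.U g s).symm hres _ l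
    · intro t
      exact ex_resO eU hres' _ t
    · intro l
      exact ex_res Ω₂ eU hres' _ l
  obtain ⟨i₀⟩ := ‹Nonempty ι›
  have m1 : Monotone A₂ := Side.As_mono _
  have m2 : Monotone N₂ := Side.Ns_mono _
  have m3 : Monotone A₁ := Side.As_mono _
  have m4 : Monotone N₁ := Side.Ns_mono _
  let LD := T.latDat i₀ A₂ N₂ A₁ N₁ m1 m2 m3 m4 hk hloc
  exact ⟨{ D := T.dat i₀, F := T.F, LD := LD, eA' := rfl, eN' := rfl, eA := rfl, eN := rfl }⟩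

end K776.RCGeo
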