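import Groth.Agent.DelIll.K905.GeoX
import Groth.Agent.DelIll.K224.RelPB
import Groth.Agent.LogNCD.K922.Univ
import Mathlib.AlgebraicGeometry.Morphisms.Etale
import Mathlib.RingTheory.RingHom.Etale

/-!
# Étale coordinates over the whole base ring
-/

set_option autoImplicit false
universe u

open CategoryTheory CategoryTheory.Limits AlgebraicGeometry Opposite TopologicalSpace
open Groth.Agent.Sga67.Sec Groth.Agent.Sga67.LocBasis
open K905.GeoX K922.Coord

namespace K776.RCh

/-- Étale coordinates on an affine open, over the ring of the base. -/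
structure EtCh {Y : Scheme.{u}} {A : Type u} [CommRing A] (q : Y ⟶ Spec (CommRingCat.of A)) (d : ℕ)
    (U : Y.Opens) (v : Fin d → Γ(Y, U)) : Prop where
  aff : IsAffineOpen U
  et : (MvPolynomial.eval₂Hom (co q U) v).Etale

theorem etale_appLE {Y S : Scheme.{u}} (f : Y ⟶ S) [Etale f] {U : S.Opens} {V : Y.Opens} (hU : IsAffineOpen U)
    (hV : IsAffineOpen V) (h : V ≤ f ⁻¹ᵁ U) : (f.appLE U V h).hom.Etale :=
  HasRingHomProperty.appLE @Etale f inferInstance ⟨U, hU⟩ ⟨V, hV⟩ h

section

variable {Y : Scheme.{u}} {A : Type u} [CommRing A] {q : Y ⟶ Spec (CommRingCat.of A)} {d : ℕ}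

theorem etale_resO {U V : Y.Opens} (hU : IsAffineOpen U) (hV : IsAffineOpen V) (h : V ≤ U) :
    (resO Y h).Etale := by
  have h1 := etale_appLE (𝟙 Y) hU hV h
  have h2 : ((𝟙 Y : Y ⟶ Y).appLE U V h).hom = resO Y h := by
    have : (𝟙 Y : Y ⟶ Y).appLE U V h = Y.presheaf.map (homOfLE h).op := by
      simp only [Scheme.Hom.appLE, Scheme.Hom.id_app]
      exact Category.id_comp _
    rw [this]
    rfl
  rwa [h2] at h1

theorem EtCh.restrict {U : Y.Opens} {v : Fin d → Γ(Y, U)} (H : EtCh q d U v) {V : Y.Opens} (hV : IsAffineOpen V)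
    (h : V ≤ U) : EtCh q d V (fun j => resO Y h (v j)) where
  aff := hV
  et := by
    have h1 : MvPolynomial.eval₂Hom (co q V) (fun j => resO Y h (v j)) =
        (resO Y h).comp (MvPolynomial.eval₂Hom (co q U) v) := by
      refine MvPolynomial.ringHom_ext (fun r => ?_) (fun j => ?_)
      · rw [MvPolynomial.eval₂Hom_C, RingHom.comp_apply, MvPolynomial.eval₂Hom_C]
        exact (co_res q h r).symm
      · rw [MvPolynomial.eval₂Hom_X', RingHom.comp_apply, MvPolynomial.eval₂Hom_X']
    rw [h1]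
    exact RingHom.Etale.stableUnderComposition _ _ H.et (etale_resO H.aff hV h)

theorem ringHom_etale_of_isPushout {A B C D : Type u} [CommRing A] [CommRing B] [CommRing C] [CommRing D]
    {a : A →+* B} {b : A →+* C} {c : B →+* D} {e : C →+* D}
    (po : IsPushout (CommRingCat.ofHom a) (CommRingCat.ofHom b) (CommRingCat.ofHom c) (CommRingCat.ofHom e))
    (h : a.Etale) : e.Etale := by
  have h1 := RingHom.isStableUnderCobaseChange_toMorphismProperty_iff.2 RingHom.Etale.isStableUnderBaseChange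
  exact h1.1 po.flip (show RingHom.toMorphismProperty RingHom.Etale (CommRingCat.ofHom a) from h)

/-- Étale coordinates are stable under base change. -/
theorem EtCh.baseChange {B : Type u} [CommRing B] {φ : A →+* B} {Y' : Scheme.{u}} {h : Y' ⟶ Y}
    {q' : Y' ⟶ Spec (CommRingCat.of B)} (HP : IsPullback h q' q (Spec.map (CommRingCat.ofHom φ)))
    {U : Y.Opens} {v : Fin d → Γ(Y, U)} (H : EtCh q d U v) :
    EtCh q' d (h ⁻¹ᵁ U) (fun j => (h.appLE U (h ⁻¹ᵁ U) le_rfl).hom (v j)) where
  aff := by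
    have : IsAffineHom h := MorphismProperty.of_isPullback (P := @IsAffineHom) HP.flip inferInstance
    exact H.aff.preimage h
  et := by
    have h0 := isPushout_co HP H.aff
    have hC := K224.RelPB.isPushout_C (J := Fin d) φ
    refine ringHom_etale_of_isPushout (a := MvPolynomial.eval₂Hom (co q U) v) (b := MvPolynomial.map φ)
      (c := (h.appLE U (h ⁻¹ᵁ U) le_rfl).hom) (IsPushout.of_left ?_ ?_ hC) H.et
    · convert h0.flip using 1
      · exact CommRingCat.hom_ext (RingHom.ext fun r => MvPolynomial.eval₂Hom_C _ _ _)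
      · rfl
      · exact CommRingCat.hom_ext (RingHom.ext fun r => MvPolynomial.eval₂Hom_C _ _ _)
    · refine CommRingCat.hom_ext (MvPolynomial.ringHom_ext (fun r => ?_) (fun j => ?_))
      · change (h.appLE U (h ⁻¹ᵁ U) le_rfl).hom (MvPolynomial.eval₂Hom _ _ (MvPolynomial.C r)) =
          MvPolynomial.eval₂Hom _ _ (MvPolynomial.map φ (MvPolynomial.C r))
        rw [MvPolynomial.map_C, MvPolynomial.eval₂Hom_C, MvPolynomial.eval₂Hom_C]
        exact congr($(h0.w.symm).hom r)
      · change (h.appLE U (h ⁻¹ᵁ U) le_rfl).hom (MvPolynomial.eval₂Hom _ _ (MvPolynomial.X j)) =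
          MvPolynomial.eval₂Hom _ _ (MvPolynomial.map φ (MvPolynomial.X j))
        rw [MvPolynomial.map_X, MvPolynomial.eval₂Hom_X', MvPolynomial.eval₂Hom_X']

/-- The coordinates are coordinates in the sense of `IsCoord`. -/
theorem EtCh.isCoord {U : Y.Opens} {v : Fin d → Γ(Y, U)} (H : EtCh q d U v) : IsCoord q U v := by
  refine isCoord_of_ring q ⟨U, H.aff⟩ ⟨⊤, isAffineOpen_top _⟩ le_top v ?_
  have h1 : MvPolynomial.eval₂Hom (q.appLE ⊤ U le_top).hom v =
      (MvPolynomial.eval₂Hom (co q U) v).comp (MvPolynomial.map (Scheme.ΓSpecIso (CommRingCat.of A)).hom.hom) := by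
    refine MvPolynomial.ringHom_ext (fun r => ?_) (fun j => ?_)
    · rw [MvPolynomial.eval₂Hom_C, RingHom.comp_apply, MvPolynomial.map_C, MvPolynomial.eval₂Hom_C]
      exact congrArg (q.appLE ⊤ U le_top).hom
        (congr($((Scheme.ΓSpecIso (CommRingCat.of A)).hom_inv_id).hom r)).symm
    · rw [MvPolynomial.eval₂Hom_X', RingHom.comp_apply, MvPolynomial.map_X, MvPolynomial.eval₂Hom_X']
  change (MvPolynomial.eval₂Hom (q.appLE ⊤ U le_top).hom v).Etale
  rw [h1]
  refine RingHom.Etale.stableUnderComposition _ _ (RingHom.Etale.of_bijective ?_) H.et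
  have h3 := ConcreteCategory.bijective_of_isIso (Scheme.ΓSpecIso (CommRingCat.of A)).hom
  exact ⟨MvPolynomial.map_injective _ h3.1, MvPolynomial.map_surjective _ h3.2⟩

/-- Local existence of étale coordinates over the base ring. -/
theorem exists_etCh (q : Y ⟶ Spec (CommRingCat.of A)) (d : ℕ) [SmoothOfRelativeDimension d q] {O : Y.Opens} {x : Y}
    (hx : x ∈ O) : ∃ (U : Y.Opens) (v : Fin d → Γ(Y, U)), x ∈ U ∧ U ≤ O ∧ EtCh q d U v := by
  obtain ⟨U₁, v, hx₁, hU₁, hv⟩ := exists_isCoord_of_rel q d hx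
  obtain ⟨W, h, V, e, -, hxW, het⟩ := hv x U₁.1 le_rfl hx₁
  refine ⟨W.1, fun j => resO Y h (v j), hxW, h.trans hU₁, W.2, ?_⟩
  have h1 : MvPolynomial.eval₂Hom (co q W.1) (fun j => resO Y h (v j)) =
      (MvPolynomial.eval₂Hom (q.appLE V.1 W.1 e).hom (fun j => resO Y h (v j))).comp
        (MvPolynomial.map ((resO (Spec (CommRingCat.of A)) (le_top : V.1 ≤ ⊤)).comp
          (Scheme.ΓSpecIso (CommRingCat.of A)).inv.hom)) := by
    refine MvPolynomial.ringHom_ext (fun r => ?_) (fun j => ?_)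
    · rw [MvPolynomial.eval₂Hom_C, RingHom.comp_apply, MvPolynomial.map_C, MvPolynomial.eval₂Hom_C]
      have h2 := Scheme.Hom.map_appLE q e (homOfLE (le_top : V.1 ≤ ⊤)).op
      exact (congr($(h2).hom ((Scheme.ΓSpecIso (CommRingCat.of A)).inv.hom r))).symm
    · rw [MvPolynomial.eval₂Hom_X', RingHom.comp_apply, MvPolynomial.map_X, MvPolynomial.eval₂Hom_X']
  rw [h1]
  refine RingHom.Etale.stableUnderComposition _ _ ?_ het
  have h3 : ((resO (Spec (CommRingCat.of A)) (le_top : V.1 ≤ ⊤)).comp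
      (Scheme.ΓSpecIso (CommRingCat.of A)).inv.hom).Etale :=
    RingHom.Etale.stableUnderComposition _ _ (RingHom.Etale.of_bijective
      (ConcreteCategory.bijective_of_isIso (Scheme.ΓSpecIso (CommRingCat.of A)).inv))
      (etale_resO (isAffineOpen_top _) V.2 le_top)
  exact ringHom_etale_of_isPushout (K224.RelPB.isPushout_C (J := Fin d) _).flip h3

end

end K776.RCh
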