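import Groth.Agent.DelIll.K776.RSide

/-!
# The geometric data of one component
-/

set_option autoImplicit false
set_option linter.unusedSectionVars false
universe u

open CategoryTheory CategoryTheory.Limits AlgebraicGeometry Opposite TopologicalSpace
open Groth.Agent.Sga67.Sec Groth.Agent.Sga67.LocBasis Groth.Agent.Fga.MumCech
open K905.GeoX K905.GeoUp K922.Coord K224.RelGD K224.RelBase K224.RelCartier K224.RelGeom
open K776.RCh K776.RTw K776.RLam K776.RDat K776.RCtx K776.RTop K776.RGeo K776.RSide K776.RLoc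
open K912.LatCmp K912.Frame

namespace K776.RComp

/-- The charts of one component. -/
structure CData {R : Type u} [CommRing R] {X Y : Scheme.{u}} (f : X ⟶ Spec (CommRingCat.of R)) (g : Y ⟶ X) (d : ℕ)
    (ι : Type u) where
  /-- the opens -/
  U : ι → X.Opens
  /-- the coordinates -/
  v : ∀ i, Fin d → Γ(X, U i)
  /-- the common open -/
  V : X.Opens
  le : ∀ i, V ≤ U i
  ch : ∀ i, EtCh f d (U i) (v i)
  affV : IsAffineOpen V
  /-- a point -/
  y₀ : Y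
  hy₀ : y₀ ∈ g ⁻¹ᵁ V
  inj : ∀ i (W : X.Opens), IsAffineOpen W → W ≤ U i → ∀ (h : g ⁻¹ᵁ V ≤ g ⁻¹ᵁ W), V ≤ W →
    Function.Injective (resO Y h)

variable {p : ℕ} [hp : Fact p.Prime] {Rt R : Type u} [CommRing Rt] [CommRing R] [CharP R p] {π : Rt →+* R}
  {X X' Xl : Scheme.{u}} [FrobSch.IsCharP X p] {f : X ⟶ Spec (CommRingCat.of R)} {w : X' ⟶ X}
  {f' : X' ⟶ Spec (CommRingCat.of R)} {F : X ⟶ X'} {j : X' ⟶ Xl} {gl : Xl ⟶ Spec (CommRingCat.of Rt)}
  (H : IsCtx p π f w f' F j gl)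
  {A : Type u} [CommRing A] [CharP A p] {φ : R →+* A} {Y Y' : Scheme.{u}} [FrobSch.IsCharP Y p] {g : Y ⟶ X}
  {q : Y ⟶ Spec (CommRingCat.of A)} {wA : Y' ⟶ Y} {q' : Y' ⟶ Spec (CommRingCat.of A)} {FA : Y ⟶ Y'}
  (hg : IsPullback g q f (Spec.map (CommRingCat.ofHom φ))) (HT : IsTw p q wA q' FA)
  {Ω₁ : Y.Modules} {δ : OmegaSh.Der q Ω₁} (hδ : OmegaSh.IsUniversal δ)
  {Ω₂ : Y'.Modules} {δ' : OmegaSh.Der q' Ω₂} (hδ' : OmegaSh.IsUniversal δ')
  {d : ℕ} {ι : Type u} [Finite ι] (c : CData f g d ι)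

include hg in
theorem isAffineHom_g : IsAffineHom g :=
  MorphismProperty.of_isPullback (P := @IsAffineHom) hg.flip inferInstance

include HT in
theorem isAffineHom_wA : IsAffineHom wA :=
  MorphismProperty.of_isPullback (P := @IsAffineHom) HT.pb.flip inferInstance

theorem CData.affU (i : ι) : IsAffineOpen (c.U i) := (c.ch i).aff

theorem CData.affUs [X.IsSeparated] (s : Set ι) (hs : s.Nonempty) : IsAffineOpen (Us c.U s) :=
  aff_Us c.U c.affU s hs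

theorem CData.injUs [X.IsSeparated] (s : Set ι) (hs : s.Nonempty) (h : g ⁻¹ᵁ c.V ≤ g ⁻¹ᵁ (Us c.U s)) :
    Function.Injective (resO Y h) := by
  obtain ⟨i, hi⟩ := hs
  exact c.inj i _ (c.affUs s ⟨i, hi⟩) (Us_le c.U hi) h (le_Us c.U c.le s)

theorem CData.le_pre (s : Set ι) : g ⁻¹ᵁ c.V ≤ g ⁻¹ᵁ (Us c.U s) := fun _ hx => le_Us c.U c.le s hx

theorem le_pre' {V W : Y.Opens} (h : V ≤ W) : wA ⁻¹ᵁ V ≤ wA ⁻¹ᵁ W := fun _ hx => h hx

variable (k : Type u) [Field k]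

/-- The side of `Y`. -/
noncomputable def sideY [X.IsSeparated] [Y.Over (Spec (CommRingCat.of k))] : Side k Y Ω₁ d ι where
  U i := g ⁻¹ᵁ (c.U i)
  aff s hs := by
    have := isAffineHom_g hg
    rw [← pre_Us]
    exact (c.affUs s hs).preimage g
  V₀ := ⟨g ⁻¹ᵁ c.V, by
    have := isAffineHom_g hg
    exact c.affV.preimage g⟩
  le i := fun _ hx => c.le i hx
  inj s hs := resO_inj_congr (pre_Us c.U g s).symm (c.le_pre s) _ (c.injUs s hs _)
  b i := fun l => K922.DSec.dS δ (g ⁻¹ᵁ (c.U i)) (tt g (c.U i) (c.v i l))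
  hb i := isLocBasis hδ ((c.ch i).baseChange hg)

include HT hδ hg in
theorem inj' [X.IsSeparated] (s : Set ι) (hs : s.Nonempty) :
    Function.Injective (resO Y' (le_pre' (wA := wA) (c.le_pre s))) := by
  obtain ⟨i, hi⟩ := hs
  have hW := c.affUs s ⟨i, hi⟩
  exact HT.resO_injective hδ c.y₀ (c.le_pre s c.hy₀) (((c.ch i).restrict hW (Us_le c.U hi)).baseChange hg)
    (c.le_pre s) (c.injUs s ⟨i, hi⟩ _) _

/-- The side of `Y'`. -/
noncomputable def sideY' [X.IsSeparated] [Y'.Over (Spec (CommRingCat.of k))] : Side k Y' Ω₂ d ι where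
  U i := wA ⁻¹ᵁ (g ⁻¹ᵁ (c.U i))
  aff s hs := by
    have := isAffineHom_g hg
    have := isAffineHom_wA HT
    have e : Us (fun i => wA ⁻¹ᵁ (g ⁻¹ᵁ (c.U i))) s = wA ⁻¹ᵁ (g ⁻¹ᵁ (Us c.U s)) := by
      rw [pre_Us c.U g, pre_Us]
    rw [e]
    exact ((c.affUs s hs).preimage g).preimage wA
  V₀ := ⟨wA ⁻¹ᵁ (g ⁻¹ᵁ c.V), by
    have := isAffineHom_g hg
    have := isAffineHom_wA HT
    exact (c.affV.preimage g).preimage wA⟩
  le i := fun _ hx => c.le i hx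
  inj s hs := resO_inj_congr (by rw [pre_Us c.U g, pre_Us]) (le_pre' (c.le_pre s)) _ (inj' hg HT hδ c s hs)
  b i := fun l => K922.DSec.dS δ' (wA ⁻¹ᵁ (g ⁻¹ᵁ (c.U i))) (gw wA (g ⁻¹ᵁ (c.U i)) (tt g (c.U i) (c.v i l)))
  hb i := isLocBasis hδ' (HT.etCh ((c.ch i).baseChange hg))

end K776.RComp
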