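import Groth.Agent.DelIll.K776.RTw

/-!
# The lifting of the Frobenius twist over an affine base, and the functions attached to charts
-/

set_option autoImplicit false
universe u

open CategoryTheory CategoryTheory.Limits AlgebraicGeometry Opposite TopologicalSpace
open Groth.Agent.Sga67.Sec Groth.Agent.Sga67.LocBasis
open K905.GeoX K905.GeoUp K922.Coord K224.RelGD K224.RelBase K224.RelCartier K224.RelGeom
open K776.RCh K776.RTw K776.RLam K776.RDat

namespace K776.RCtx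

variable (p : ℕ) [hp : Fact p.Prime] {Rt R : Type u} [CommRing Rt] [CommRing R] [CharP R p] (π : Rt →+* R)
  {X X' Xl : Scheme.{u}} [FrobSch.IsCharP X p] (f : X ⟶ Spec (CommRingCat.of R)) (w : X' ⟶ X)
  (f' : X' ⟶ Spec (CommRingCat.of R)) (F : X ⟶ X') (j : X' ⟶ Xl) (g : Xl ⟶ Spec (CommRingCat.of Rt))

/-- The lifting of the twist. -/
structure IsCtx : Prop where
  tw : IsTw p f w f' F
  lft : IsLft p π
  pb : IsPullback j f' g (Spec.map (CommRingCat.ofHom π))
  flat : Flat g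

variable {p π f w f' F j g} (H : IsCtx p π f w f' F j g)

include H in
theorem IsCtx.geo : IsGeo p f w f' F j g (Spec.map (CommRingCat.ofHom π)) where
  tw := H.tw.geo.tw
  F1 := H.tw.F1
  F2 := H.tw.F2
  w := H.pb.w
  hi := isOpenEmbedding H.lft H.pb

/-- The data over `V`. -/
noncomputable abbrev IsCtx.G (V : X.Opens) := gd H.geo V

/-- The constants of the lifting. -/
noncomputable abbrev IsCtx.ρ (V : X.Opens) : Rt →+* Γ(Xl, up H.geo.hi (w ⁻¹ᵁ V)) := co g _

theorem IsCtx.lftV {V : X.Opens} (hV : IsAffineOpen V) : IsLft p (H.G V).θ := by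
  have hcX : IsClosedImmersion j := isClosedImmersion H.lft H.pb
  have hsX : Surjective j := surjective H.lft H.pb
  have := H.flat
  have hpra : IsAffineHom w := MorphismProperty.of_isPullback (P := @IsAffineHom) H.tw.pb.flip inferInstance
  have hUt : IsAffineOpen (up H.geo.hi (w ⁻¹ᵁ V)) := K904.GeoUp.isAffineOpen_up j (hV.preimage w)
  exact isLft_sec H.lft H.pb hUt (preimage_up H.geo.hi (w ⁻¹ᵁ V)) _

theorem IsCtx.θ_co (V : X.Opens) (r : Rt) : (H.G V).θ (H.ρ V r) = co f' (w ⁻¹ᵁ V) (π r) :=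
  co_comp H.pb.w _ r

theorem IsCtx.hρ (V : X.Opens) (r : Rt) : (H.G V).θ (H.ρ V r) ^ p = (H.G V).w (co f V (π r)) := by
  rw [H.θ_co]
  exact (H.tw.gw_co V (π r)).symm

theorem IsCtx.hFρ (V : X.Opens) (r : Rt) : (H.G V).F ((H.G V).θ (H.ρ V r)) = co f V (π r) := by
  rw [H.θ_co]
  exact H.tw.gF_co V (π r)

/-- The rules. -/
abbrev IsCtx.IsLamV (V : X.Opens) (lam : P (H.G V) → Γ(X, V)) : Prop := IsLam (H.G V) π (H.ρ V) (co f V) lam

theorem IsCtx.exists_lift {V : X.Opens} (hV : IsAffineOpen V) (a : Γ(X, V)) : ∃ x : P (H.G V), x.1.2 = a := by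
  obtain ⟨b, hb⟩ := (H.lftV hV).surj ((H.G V).w a)
  exact ⟨⟨(b, a), hb⟩, rfl⟩

/-- Existence of the function attached to a chart. -/
theorem IsCtx.exists_lam {V : X.Opens} (x₀ : X) (hx₀ : x₀ ∈ V) {d : ℕ} {v : Fin d → Γ(X, V)} (h : EtCh f d V v)
    (xt : Fin d → P (H.G V)) (hxt : ∀ l, (xt l).1.2 = v l) :
    ∃ lam : P (H.G V) → Γ(X, V), H.IsLamV V lam ∧ ∀ l, lam (xt l) = 0 := by
  have : Nonempty V := ⟨⟨x₀, hx₀⟩⟩
  have : CharP Γ(X, V) p := K224.RelCov.charP_of V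
  have hL := H.lftV h.aff
  have hsm : @Algebra.FormallySmooth (MvPolynomial (Fin d) R) Γ(X, V) _ _
      (MvPolynomial.eval₂Hom (co f V) (fun l => (xt l).1.2)).toAlgebra := by
    have e : (fun l => (xt l).1.2) = v := funext hxt
    rw [e]
    let _ := (MvPolynomial.eval₂Hom (co f V) v).toAlgebra
    have h1 : Algebra.Etale (MvPolynomial (Fin d) R) Γ(X, V) := h.et
    exact inferInstance
  obtain ⟨lam, l1, l2, l3, l4, l5⟩ := K224.RelLam.exists_lam (G := H.G V) π (H.ρ V) (co f V) (H.hρ V) (H.hFρ V)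
    H.lft.surj H.lft.ker hL.pp hL.surj hL.ker hL.tor xt hsm
  exact ⟨lam, ⟨l1, l2, l3, l4⟩, l5⟩

/-- Compatibility of the functions attached to charts with restriction. -/
theorem IsCtx.compat {V W : X.Opens} (hWV : W ≤ V) (x₀ : X) (hx₀ : x₀ ∈ W) {d : ℕ} {v : Fin d → Γ(X, V)}
    (h : EtCh f d V v) {xt : Fin d → P (H.G V)} (hxt : ∀ l, (xt l).1.2 = v l)
    {lam : P (H.G V) → Γ(X, V)} (hl : H.IsLamV V lam) (h0 : ∀ l, lam (xt l) = 0)
    {lam' : P (H.G W) → Γ(X, W)} (hl' : H.IsLamV W lam') (h0' : ∀ l, lam' ((mor (gm H.geo hWV)).fP (xt l)) = 0)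
    (x : P (H.G V)) : lam' ((mor (gm H.geo hWV)).fP x) = resO X hWV (lam x) := by
  have : Nonempty W := ⟨⟨x₀, hx₀⟩⟩
  have : CharP Γ(X, W) p := K224.RelCov.charP_of W
  have hL := H.lftV h.aff
  refine RLam.compat (gm H.geo hWV) hL.surj hL.ker H.lft.surj (H.hρ V) (ρ' := H.ρ W) (f' := co f W)
    (fun r => co_res g _ r) (fun r => co_res f hWV r) hl hl' xt h0 h0' ?_ x
  have e : (fun l => (xt l).1.2) = v := funext hxt
  rw [e]
  exact h.et

/-- Derivations kill the sections coming from the twist. -/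
theorem IsCtx.const {V : X.Opens} (hV : IsAffineOpen V) {T L : Type*} [CommRing T] [AddCommGroup L] [Module T L]
    (t : Γ(X, V) →+* T) (hpT : (p : T) = 0) {δ : T →+ L} (leib : ∀ a b, δ (a * b) = a • δ b + b • δ a)
    (hf : ∀ r, δ (t (co f V r)) = 0) (c : Γ(X', w ⁻¹ᵁ V)) : δ (t ((H.G V).F c)) = 0 := by
  have hPZ : K905.TotM.PZ p T := ⟨hpT⟩
  have hpow : ∀ a : T, δ (a ^ p) = 0 := fun a => K905.TotPhi.δ_pow_p p leib a
  induction K224.RelCov.mem_closure_of_isPushout (isPushout_co H.tw.pb hV).flip c using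
    AddSubgroup.closure_induction with
  | mem z hz =>
    obtain ⟨a, r, rfl⟩ := hz
    have h1 : (H.G V).F ((w.appLE V (w ⁻¹ᵁ V) le_rfl).hom a) = a ^ p := (H.G V).hF a
    have h2 : (H.G V).F (co f' (w ⁻¹ᵁ V) r) = co f V r := H.tw.gF_co V r
    change δ (t ((H.G V).F ((w.appLE V (w ⁻¹ᵁ V) le_rfl).hom a * co f' (w ⁻¹ᵁ V) r))) = 0
    rw [map_mul, h1, h2, map_mul, leib, hf, map_pow, hpow, smul_zero, smul_zero, add_zero]
  | zero => rw [map_zero, map_zero, map_zero]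
  | add x y _ _ hx hy => rw [map_add, map_add, map_add, hx, hy, add_zero]
  | neg x _ hx => rw [map_neg, map_neg, map_neg, hx, neg_zero]

end K776.RCtx
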