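import Groth.Agent.DelIll.K776.RLoc

/-!
# The relative Deligne-Illusie data from twisted derivations
-/

set_option autoImplicit false

open ExteriorAlgebra Module K904 K905.TotPhi K224.RelCartier
open K912.Alt K776.RAlt K776.RLoc

namespace K776.RDat

/-- Derivations twisted by the `p`-th power of `π`, killing the constants `K`. -/
structure TwDer {B T N : Type*} [CommRing B] [CommRing T] [AddCommGroup N] [Module T N] (p : ℕ) (π : B →+* T)
    (K : Set B) (D : B →+ N) : Prop where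
  leib : ∀ a b, D (a * b) = π a ^ p • D b + π b ^ p • D a
  const : ∀ c ∈ K, D c = 0

/-- Uniqueness of twisted derivations with given values on `y`. -/
def Uniq {B T : Type*} [CommRing B] [CommRing T] (p : ℕ) (π : B →+* T) (K : Set B) {J : Type*} (y : J → B)
    (N : Type*) [AddCommGroup N] [Module T N] : Prop :=
  ∀ D D' : B →+ N, TwDer p π K D → TwDer p π K D' → (∀ l, D (y l) = D' (y l)) → ∀ a, D a = D' a

variable (p : ℕ) [Fact p.Prime] (ι B T' T L' L J : Type*) [CommRing B] [CommRing T'] [CommRing T] [AddCommGroup L']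
  [Module T' L'] [AddCommGroup L] [Module T L] [Fintype J] [LinearOrder J]

/-- The data over the ambient open. -/
structure Top where
  /-- relative Frobenius -/
  φ : T' →+* T
  /-- the derivation -/
  δ : T →+ L
  /-- the derivation of the twist -/
  δ' : T' →+ L'
  /-- pull-back to the twist -/
  σ : B →+* T'
  /-- pull-back -/
  π : B →+* T
  hφσ : ∀ a, φ (σ a) = π a ^ p
  leib' : ∀ a b, δ' (a * b) = a • δ' b + b • δ' a
  /-- the coordinates -/
  y : ι → J → B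
  /-- the bases -/
  e : ι → Basis J T L
  /-- the bases of the twist -/
  e' : ι → Basis J T' L'
  chart : ∀ i, RChart p φ (fun l => π (y i l)) δ (e i)
  he' : ∀ i l, e' i l = δ' (σ (y i l))
  /-- the constants -/
  K : Set B
  hK : ∀ c ∈ K, δ' (σ c) = 0
  /-- differences of Frobenius liftings -/
  D : ι → ι → B →+ T
  /-- Frobenius liftings on differentials -/
  E : ι → B →+ L
  hD : ∀ i j, TwDer p π K (D i j)
  hE : ∀ i, TwDer p π K (E i)
  hDE : ∀ i j a, E j a - E i a = δ (D i j a)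
  hcoc : ∀ i j l a, D i j a + D j l a = D i l a
  hEy : ∀ i l, E i (y i l) = π (y i l) ^ (p - 1) • δ (π (y i l))
  uT : ∀ i, Uniq p π K (y i) T
  uL : ∀ i, Uniq p π K (y i) L

variable {p ι B T' T L' L J} (X : Top p ι B T' T L' L J)

namespace Top

/-- The maps `f`. -/
noncomputable def f (i : ι) : L' →+ L :=
  semi X.φ (X.e' i) (fun l => X.π (X.y i l) ^ (p - 1) • X.e i l)

/-- The maps `h`. -/
noncomputable def h (i j : ι) : L' →+ T := semi X.φ (X.e' i) (fun l => X.D i j (X.y i l))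

theorem f_smul (i : ι) (b : T') (w : L') : X.f i (b • w) = X.φ b • X.f i w := semi_smul _ _ _ b w

theorem h_smul (i j : ι) (b : T') (w : L') : X.h i j (b • w) = X.φ b • X.h i j w := semi_smul _ _ _ b w

theorem f_basis (i : ι) (l : J) : X.f i (X.e' i l) = X.π (X.y i l) ^ (p - 1) • X.e i l := semi_basis _ _ _ l

theorem h_basis (i j : ι) (l : J) : X.h i j (X.e' i l) = X.D i j (X.y i l) := semi_basis _ _ _ l

theorem twDer_comp {N : Type*} [AddCommGroup N] [Module T N] (g : L' →+ N)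
    (hg : ∀ (b : T') (w : L'), g (b • w) = X.φ b • g w) :
    TwDer p X.π X.K ((g.comp X.δ').comp X.σ.toAddMonoidHom) where
  leib a b := by
    change g (X.δ' (X.σ (a * b))) = X.π a ^ p • g (X.δ' (X.σ b)) + X.π b ^ p • g (X.δ' (X.σ a))
    rw [map_mul, X.leib', map_add, hg, hg, X.hφσ, X.hφσ]
  const c hc := by
    change g (X.δ' (X.σ c)) = 0
    rw [X.hK c hc, map_zero]

theorem f_eq (i : ι) (a : B) : X.f i (X.δ' (X.σ a)) = X.E i a :=
  X.uL i ((((X.f i).comp X.δ').comp X.σ.toAddMonoidHom)) (X.E i) (X.twDer_comp _ (X.f_smul i)) (X.hE i)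
    (fun l => by
      change X.f i (X.δ' (X.σ (X.y i l))) = _
      rw [← X.he', X.f_basis, X.hEy, (X.chart i).ex]) a

theorem h_eq (i j : ι) (a : B) : X.h i j (X.δ' (X.σ a)) = X.D i j a :=
  X.uT i ((((X.h i j).comp X.δ').comp X.σ.toAddMonoidHom)) (X.D i j) (X.twDer_comp _ (X.h_smul i j)) (X.hD i j)
    (fun l => by
      change X.h i j (X.δ' (X.σ (X.y i l))) = _
      rw [← X.he', X.h_basis]) a

theorem coc (i j l : ι) (w : L') : X.h i j w + X.h j l w = X.h i l w := by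
  refine semi_ext X.φ (X.e' i) (f := X.h i j + X.h j l) (g := X.h i l) (fun b w => ?_) (X.h_smul i l) (fun m => ?_) w
  · rw [AddMonoidHom.add_apply, AddMonoidHom.add_apply, X.h_smul, X.h_smul, smul_add]
  · rw [AddMonoidHom.add_apply, X.he', X.h_eq, X.h_eq, X.h_eq, X.hcoc]

theorem hdiff (i j : ι) (w : L') : X.f j w - X.f i w = X.δ (X.h i j w) := by
  refine semi_ext X.φ (X.e' i) (f := X.f j - X.f i) (g := X.δ.comp (X.h i j)) (fun b w => ?_) (fun b w => ?_)
    (fun m => ?_) w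
  · rw [AddMonoidHom.sub_apply, AddMonoidHom.sub_apply, X.f_smul, X.f_smul, smul_sub]
  · rw [AddMonoidHom.comp_apply, AddMonoidHom.comp_apply, X.h_smul, smul_eq_mul, (X.chart i).leib, (X.chart i).const,
      smul_zero, add_zero]
  · rw [AddMonoidHom.sub_apply, AddMonoidHom.comp_apply, X.he', X.f_eq, X.f_eq, X.h_eq, X.hDE]

variable [CharP T' p]

/-- The differential. -/
noncomputable def d (i : ι) : ExteriorAlgebra T L →+ ExteriorAlgebra T L := LocalCartier.d X.δ (X.e i)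

theorem isDR (i : ι) : IsDR X.δ (X.d i) := isDR_of_chart (X.chart i)

omit [CharP T' p] in
theorem span (i : ι) (m : L) : m ∈ Submodule.span T (Set.range X.δ) := span_of_chart (X.chart i) m

theorem d_eq (i j : ι) (y : ExteriorAlgebra T L) : X.d i y = X.d j y :=
  d_unique (X.isDR i) (X.isDR j) (X.span i) y

theorem d_f (i j : ι) (w : L') : X.d i (ExteriorAlgebra.ι T (X.f j w)) = 0 := by
  obtain ⟨H, q, -, -, -, h4, -⟩ := K224.RelCartier.main (X.chart j)
  rw [X.d_eq i j]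
  have h5 := h4 (ExteriorAlgebra.ι T' ((X.e' j).equivFun w))
  rw [c0_ι] at h5
  have h6 : fadd p X.φ (fun l => X.π (X.y j l)) (X.e j) ((X.e' j).equivFun w) = X.f j w := rfl
  rwa [h6] at h5

/-- The data for the abstract argument. -/
noncomputable def dat (i₀ : ι) : Dat ι T' T L' L where
  φ := X.φ
  d := X.d i₀
  f := X.f
  h := X.h
  f_smul := X.f_smul
  h_smul i j b w := X.h_smul i j b w
  coc := X.coc
  anti i w x := by
    rw [(X.isDR i₀).mul, X.d_f, zero_mul, zero_add, Iso.sg_ι, neg_mul]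
  diff i j w x := by
    rw [(X.isDR i₀).smul, add_sub_cancel_right, ← X.hdiff, map_sub, sub_mul]
  d_φ b x := by
    rw [(X.isDR i₀).smul, (X.chart i₀).const, map_zero, zero_mul, zero_add]
  d_one := (X.isDR i₀).one
  dd y := K224.RelCartier.d_d (X.chart i₀) y

/-- The ring homomorphisms. -/
noncomputable def F (i : ι) : ExteriorAlgebra T' L' →+* ExteriorAlgebra T L := Semi.extR X.φ (X.f i) (X.f_smul i)

variable {k : Type*} [Field k] [Algebra k T'] [Module k L'] [IsScalarTower k T' L']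
  [Algebra k T] [Module k L] [IsScalarTower k T L]

/-- The local facts for one finite intersection. -/
structure Loc (s : Set ι) (A' : Subalgebra k T') (N' : Submodule k L') (A : Subalgebra k T) (N : Submodule k L) :
    Prop where
  hφ : ∀ b ∈ A', X.φ b ∈ A
  f_mem : ∀ i ∈ s, ∀ w ∈ N', X.f i w ∈ N
  h_mem : ∀ i ∈ s, ∀ j ∈ s, ∀ w ∈ N', X.h i j w ∈ A
  d_mem : ∀ i₀ : ι, ∀ a, ∀ y ∈ latZ (Subalgebra.toSubmodule A) N a, X.d i₀ y ∈ latZ (Subalgebra.toSubmodule A) N (a + 1)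
  surj : ∀ i₀ : ι, ∀ i ∈ s, ∀ (a : ℕ), ∀ y ∈ lat (Subalgebra.toSubmodule A) N a, X.d i₀ y = 0 →
    ∃ g ∈ lat (Subalgebra.toSubmodule A') N' a,
      ∃ z ∈ latZ (Subalgebra.toSubmodule A) N ((a : ℤ) - 1), y = X.F i g + X.d i₀ z
  inj : ∀ i₀ : ι, ∀ i ∈ s, ∀ (a : ℕ), ∀ g ∈ lat (Subalgebra.toSubmodule A') N' a,
    ∀ z ∈ latZ (Subalgebra.toSubmodule A) N ((a : ℤ) - 1), X.F i g = X.d i₀ z → g = 0

/-- The lattice data. -/
noncomputable def latDat (i₀ : ι) (A' : Set ι → Subalgebra k T') (N' : Set ι → Submodule k L')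
    (A : Set ι → Subalgebra k T) (N : Set ι → Submodule k L)
    (mA' : Monotone A') (mN' : Monotone N') (mA : Monotone A) (mN : Monotone N)
    (hk : ∀ t : k, X.φ (algebraMap k T' t) = algebraMap k T t)
    (hloc : ∀ s, s.Nonempty → X.Loc s (A' s) (N' s) (A s) (N s)) : LatDat (X.dat i₀) X.F p k where
  A' := A'
  N' := N'
  A := A
  N := N
  A'_mono := mA'
  N'_mono := mN'
  A_mono := mA
  N_mono := mN
  hk := hk
  hF i b := Semi.extR_algebraMap _ _ _ b
  hFι i w := Semi.extR_ι _ _ _ w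
  hφ s hs := (hloc s hs).hφ
  f_mem s i hi := (hloc s ⟨i, hi⟩).f_mem i hi
  h_mem s i hi j hj := (hloc s ⟨i, hi⟩).h_mem i hi j hj
  d_mem s hs a y hy := (hloc s hs).d_mem i₀ a y hy
  surj s i hi a _ y hy hdy := (hloc s ⟨i, hi⟩).surj i₀ i hi a y hy hdy
  inj s i hi a _ g hg z hz h := (hloc s ⟨i, hi⟩).inj i₀ i hi a g hg z hz h

section mkLoc

variable {Bs Bs' Ms Ms' : Type*} [CommRing Bs] [CommRing Bs'] [AddCommGroup Ms] [Module Bs Ms] [AddCommGroup Ms']
  [Module Bs' Ms'] (r : Res Bs T Ms L) (r' : Res Bs' T' Ms' L') [CharP Bs' p] (ψ : Bs' →+* Bs) (δs : Bs →+ Ms)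
  {s : Set ι} (xs : ι → J → Bs) (es : ι → Basis J Bs Ms) (es' : ι → Basis J Bs' Ms')
  {A' : Subalgebra k T'} {N' : Submodule k L'} {A : Subalgebra k T} {N : Submodule k L}

/-- **The local facts.** -/
theorem mkLoc (hs : s.Nonempty) (hch : ∀ i ∈ s, RChart p ψ (xs i) δs (es i))
    (hφ : ∀ b, X.φ (r'.ρ b) = r.ρ (ψ b)) (hρ : Function.Injective r.ρ)
    (hg : ∀ b, r.g (δs b) = X.δ (r.ρ b))
    (hxs : ∀ i ∈ s, ∀ l, r.ρ (xs i l) = X.π (X.y i l))
    (hes : ∀ i ∈ s, ∀ l, r.g (es i l) = X.e i l) (hes' : ∀ i ∈ s, ∀ l, r'.g (es' i l) = X.e' i l)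
    (hDs : ∀ i ∈ s, ∀ j ∈ s, ∀ l, ∃ b, r.ρ b = X.D i j (X.y i l))
    (hA : ∀ t, t ∈ A ↔ ∃ b, r.ρ b = t) (hN : ∀ l, l ∈ N ↔ ∃ m, r.g m = l)
    (hA' : ∀ t, t ∈ A' ↔ ∃ b, r'.ρ b = t) (hN' : ∀ l, l ∈ N' ↔ ∃ m, r'.g m = l) : X.Loc s A' N' A N := by
  have hfe : ∀ i ∈ s, ∀ l, X.f i (r'.g (es' i l)) = r.g (xs i l ^ (p - 1) • es i l) := by
    intro i hi l
    rw [hes' i hi, X.f_basis, r.g_smul, hes i hi, map_pow, hxs i hi]
  refine ⟨?_, ?_, ?_, ?_, ?_, ?_⟩
  · intro b hb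
    obtain ⟨c, rfl⟩ := (hA' b).1 hb
    exact (hA _).2 ⟨_, (hφ c).symm⟩
  · intro i hi w hw
    obtain ⟨m, rfl⟩ := (hN' w).1 hw
    rw [← (es' i).sum_repr m, map_sum, map_sum]
    refine Submodule.sum_mem _ fun l _ => (hN _).2 ⟨ψ ((es' i).repr m l) • (xs i l ^ (p - 1) • es i l), ?_⟩
    rw [r'.g_smul, X.f_smul, hfe i hi, hφ, r.g_smul]
  · intro i hi j hj w hw
    obtain ⟨m, rfl⟩ := (hN' w).1 hw
    rw [← (es' i).sum_repr m, map_sum, map_sum]
    refine Subalgebra.sum_mem _ fun l _ => ?_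
    obtain ⟨b, hb⟩ := hDs i hi j hj l
    refine (hA _).2 ⟨ψ ((es' i).repr m l) * b, ?_⟩
    rw [r'.g_smul, X.h_smul, hes' i hi, X.h_basis, hφ, map_mul, hb, smul_eq_mul]
  · intro i₀ a y hy
    obtain ⟨i, hi⟩ := hs
    exact RLoc.d_mem r hA hN (isDR_of_chart (hch i hi)) (X.isDR i₀) hg (span_of_chart (hch i hi)) a y hy
  · intro i₀ i hi a y hy hdy
    exact RLoc.surj r r' (hch i hi) (es' i) hφ (X.f_smul i) (fun b => Semi.extR_algebraMap _ _ _ b)
      (fun w => Semi.extR_ι _ _ _ w) (hfe i hi) hA hN hA' hN' (X.isDR i₀) hg (X.e i) (fun l => (hes i hi l).symm)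
      hρ a y hy hdy
  · intro i₀ i hi a g hg' z hz h
    exact RLoc.inj r r' (hch i hi) (es' i) hφ (X.f_smul i) (fun b => Semi.extR_algebraMap _ _ _ b)
      (fun w => Semi.extR_ι _ _ _ w) (hfe i hi) hA hN hA' hN' (X.isDR i₀) hg (X.e i) (fun l => (hes i hi l).symm)
      hρ a g hg' z hz h

end mkLoc

end Top

end K776.RDat
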