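import Groth.Agent.DelIll.K776.RCh
import Groth.Agent.DelIll.K776.Intf

/-!
# Interface for the choice of charts, and for the comparison of lengths
-/

set_option autoImplicit false
universe u

open CategoryTheory CategoryTheory.Limits AlgebraicGeometry Opposite TopologicalSpace
open Groth.Agent.Sga67.Sec
open K905.GeoX

namespace K776.RCh

/-- **(FM)** Finite families of charts adapted to the components of the fibre over an artinian local ring. -/
def FamStmt : Prop := ∀ (R : Type u) [CommRing R] (X : Scheme.{u}) (f : X ⟶ Spec (CommRingCat.of R)) [IsProper f]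
    (d : ℕ) [SmoothOfRelativeDimension d f]
    (A : Type u) [CommRing A] [IsLocalRing A] [IsArtinianRing A] (φ : R →+* A), Function.Surjective φ →
    ∀ (Y : Scheme.{u}) (g : Y ⟶ X) (q : Y ⟶ Spec (CommRingCat.of A)),
      IsPullback g q f (Spec.map (CommRingCat.ofHom φ)) →
    ∃ (C : Type u) (_ : Fintype C) (ι : C → Type u) (_ : ∀ c, Finite (ι c)) (_ : ∀ c, Nonempty (ι c))
      (U : ∀ c, ι c → X.Opens) (v : ∀ c i, Fin d → Γ(X, U c i)) (V : C → X.Opens) (_ : ∀ c i, V c ≤ U c i),
      (∀ c i, EtCh f d (U c i) (v c i)) ∧ (∀ c, IsAffineOpen (V c)) ∧ (∀ c, ∃ y : Y, y ∈ g ⁻¹ᵁ V c) ∧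
      (⨆ x : Σ c, ι c, g ⁻¹ᵁ (U x.1 x.2) = ⊤) ∧
      (∀ c c' i j, c ≠ c' → g ⁻¹ᵁ (U c i) ⊓ g ⁻¹ᵁ (U c' j) = ⊥) ∧
      (∀ c i (W : X.Opens), IsAffineOpen W → W ≤ U c i → ∀ (h : g ⁻¹ᵁ V c ≤ g ⁻¹ᵁ W), V c ≤ W →
        Function.Injective (resO Y h))

/-- **(LF)** Length over an artinian local ring and dimension over a coefficient field. -/
def LenStmt : Prop := ∀ (A : Type u) [CommRing A] [IsLocalRing A] [IsArtinianRing A] (k : Type u) [Field k]
    (κ : k →+* A), Function.Bijective ((IsLocalRing.residue A).comp κ) →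
    ∀ (M : Type u) [AddCommGroup M] [Module A M] [Module.Finite A M],
    letI : Module k M := Module.compHom M κ
    Module.Finite k M ∧ Module.length A M = (Module.finrank k M : ℕ∞)

end K776.RCh
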