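import Groth.Agent.DelIll.K912.Frame

/-!
# Sections of `Λ^a E` over a small affine open as elements of an exterior algebra
-/

set_option autoImplicit false

universe u

open CategoryTheory CategoryTheory.Limits AlgebraicGeometry Opposite TopologicalSpace
open Groth.Agent.Sga67.Sec Groth.Agent.Sga67.LocBasis Groth.Agent.Sga67.ExtSheaf
open Groth.Agent.Fga.MumCech
open K912.Alt K912.Frame K912.LatCmp K912.Seq

namespace K776.RFrame

variable {X : Scheme.{u}} {E La : X.Modules} {a : ℕ} (φ : Phi a E La) (V₀ : X.affineOpens)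

/-- The realisation of the sections over `V₀`. -/
noncomputable def rphi : Sec La V₀.1 →ₗ[Γ(X, V₀.1)] ExteriorAlgebra Γ(X, V₀.1) (Sec E V₀.1) :=
  (Submodule.subtype _) ∘ₗ (φ V₀).toLinearMap

theorem rphi_apply (x : Sec La V₀.1) : rphi φ V₀ x = (φ V₀ x : ExteriorAlgebra _ _) := rfl

theorem rphi_injective : Function.Injective (rphi φ V₀) :=
  Subtype.val_injective.comp (φ V₀).injective

section Lattice

variable (hφ : PhiComp φ) {V : X.affineOpens} (hV₀ : V₀.1 ≤ V.1)

include hφ in
theorem rphi_res_ιMulti (c : Γ(X, V.1)) (e : Fin a → Sec E V.1) :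
    rphi φ V₀ (res _ hV₀ (c • (φ V).symm (exteriorPower.ιMulti _ a e))) =
      resO X hV₀ c • ExteriorAlgebra.ιMulti _ a (fun l => res E hV₀ (e l)) := by
  rw [Groth.Agent.Sga67.Sec.res_smul, map_smul, rphi_apply, hφ, LinearEquiv.apply_symm_apply,
    exteriorPower.ιMulti_apply_coe]

variable (k : Type u) [Field k] [X.Over (Spec (CommRingCat.of k))]

attribute [local instance] algV modS

include hφ in
/-- **The lattice of sections.** -/
theorem range_rphi_res (y : ExteriorAlgebra Γ(X, V₀.1) (Sec E V₀.1)) :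
    (∃ x : Sec La V.1, rphi φ V₀ (res _ hV₀ x) = y) ↔
    y ∈ lat (Subalgebra.toSubmodule (Av k hV₀)) (Nv k E hV₀) a := by
  constructor
  · rintro ⟨x, rfl⟩
    refine phi_induction φ V (C := fun x => ∀ c : Γ(X, V.1), rphi φ V₀ (res _ hV₀ (c • x)) ∈
      lat (Subalgebra.toSubmodule (Av k hV₀)) (Nv k E hV₀) a) ?_ ?_ ?_ ?_ x 1 |> fun h => by
        rwa [one_smul] at h
    · intro c
      rw [smul_zero, map_zero, map_zero]
      exact Submodule.zero_mem _
    · intro x y hx hy c
      rw [smul_add, map_add, map_add]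
      exact Submodule.add_mem _ (hx c) (hy c)
    · intro b x hx c
      rw [smul_smul]
      exact hx _
    · intro e c
      rw [rphi_res_ιMulti φ V₀ hφ hV₀]
      exact smul_ιMulti_mem ((mem_Av k hV₀).2 ⟨_, rfl⟩) fun l => (mem_Nv k E hV₀).2 ⟨_, rfl⟩
  · intro hw
    induction hw using Submodule.span_induction with
    | mem w hw =>
      obtain ⟨q, ⟨q', rfl⟩, e, he, rfl⟩ := hw
      choose e' he' using he
      refine ⟨q' • (φ V).symm (exteriorPower.ιMulti _ a e'), ?_⟩
      rw [rphi_res_ιMulti φ V₀ hφ hV₀]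
      have h2 : e = fun l => res E hV₀ (e' l) := funext fun l => (he' l).symm
      rw [h2]
      rfl
    | zero => exact ⟨0, by rw [map_zero, map_zero]⟩
    | add w w' _ _ hw hw' =>
      obtain ⟨x, hx⟩ := hw
      obtain ⟨x', hx'⟩ := hw'
      exact ⟨x + x', by rw [map_add, map_add, hx, hx']⟩
    | smul t w _ hw =>
      obtain ⟨x, hx⟩ := hw
      refine ⟨glV k V.1 t • x, ?_⟩
      have h3 : resO X hV₀ (glV k V.1 t) = algebraMap k Γ(X, V₀.1) t := glV_res k hV₀ t
      rw [Groth.Agent.Sga67.Sec.res_smul, map_smul, hx, h3, algebraMap_smul]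

end Lattice

section Nl

variable (k : Type u) [Field k] [X.Over (Spec (CommRingCat.of k))]

attribute [local instance] algV modS modP

/-- The realisation as a `k`-linear map. -/
noncomputable def rphik : La.presheaf.obj (op V₀.1) →ₗ[k]
    ExteriorAlgebra Γ(X, V₀.1) (Sec E V₀.1) where
  toFun := rphi φ V₀
  map_add' := map_add _
  map_smul' t x := by
    change rphi φ V₀ (glV k V₀.1 t • (show Sec La V₀.1 from x)) = _
    have h3 : glV k V₀.1 t = algebraMap k Γ(X, V₀.1) t := rfl
    rw [map_smul, h3, algebraMap_smul]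
    rfl

theorem rho_rphik {V : X.Opens} (h : V₀.1 ≤ V) (x : Sec La V) :
    rho k La (rphik φ V₀ k) h x = rphi φ V₀ (res _ h x) := rfl

variable {ι : Type u} (U : ι → X.Opens) (hV₀ : ∀ i, V₀.1 ≤ U i) (hφ : PhiComp φ)

include hφ in
/-- The lattices of `Λ^a E`. -/
theorem Nl_eq {s : Set ι} (hs : s.Nonempty) (haff : IsAffineOpen (Us U s)) :
    Nl k U hV₀ La (rphik φ V₀ k) s =
      lat (Subalgebra.toSubmodule (Av k (le_Us U hV₀ s))) (Nv k E (le_Us U hV₀ s)) a := by
  ext y
  rw [← range_rphi_res φ V₀ hφ (V := ⟨Us U s, haff⟩) (le_Us U hV₀ s) k y, Nl_nonempty k U hV₀ _ _ hs]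
  rfl

theorem rho_rphik_injective {U V : X.affineOpens} (h : V.1 ≤ U.1)
    (h₀ : V₀.1 ≤ V.1) (hρ : Function.Injective (resO X h₀)) {κ : Type*} [Fintype κ] [LinearOrder κ]
    (hφ : PhiComp φ) {b : κ → Sec E U.1} (hb : IsLocBasis b) :
    Function.Injective (rho k La (rphik φ V₀ k) h₀) := by
  have hB := isLocBasis_extPow φ hφ hb
  exact (rphi_injective φ V₀).comp (res_injective h h₀ hρ hB)

end Nl

end K776.RFrame
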