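import Groth.Agent.DelIll.K776.RAltProp
import Groth.Agent.DelIll.K912.Num
import Mathlib.Data.Nat.Prime.Factorial

/-!
# The numerical consequence of the relative decomposition

`LatDat X F p`: lattices in the ambient exterior algebras over `R'` and `R` compatible with the Deligne-Illusie data
`X`, together with the local Cartier isomorphism in degrees `< p`.  `sum_finrank_le`: the inequality for the Čech
cohomologies.
-/

set_option autoImplicit false

namespace K776.RAlt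

open K912.Seq K912.Cx K912.Op K912.Stair K912.Dim
open K912.Alt (lat latZ lat_mono latZ_mono smul_ιMulti_mem lat_le_exteriorPower ι_mul_mem_Z
  smul_mem_latZ latZ_natCast latZ_neg)
section Lin

theorem sum_finrank_le_of_injective {k V' : Type*} [Field k] [AddCommGroup V']
    [Module k V'] {n : ℕ} (E : Fin n → Type*) [∀ q, AddCommGroup (E q)] [∀ q, Module k (E q)]
    (j : (∀ q, E q) →ₗ[k] V') (hj : Function.Injective j) [Module.Finite k V'] :
    ∑ q, Module.finrank k (E q) ≤ Module.finrank k V' := by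
  have h2 : Module.Finite k (∀ q, E q) := Module.Finite.of_injective j hj
  have h3 : ∀ q, Module.Finite k (E q) := fun q =>
    Module.Finite.of_surjective (LinearMap.proj (R := k) (φ := E) q) (LinearMap.proj_surjective q)
  have h4 := LinearMap.finrank_le_finrank_of_injective hj
  rwa [Module.finrank_pi_fintype] at h4

variable {k W ι : Type*} [Field k] [AddCommGroup W] [Module k W]

variable {𝔾 : Type*} [AddCommGroup 𝔾] [Module k 𝔾] {G : ℤ → Set ι → Submodule k 𝔾}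
  {ψ : 𝔾 →+ T ι W} {d : W →ₗ[k] W} {K : ℤ → Set ι → Submodule k W}

theorem Phi1_smul (h : Hyp d.toAddMonoidHom K G ψ) (m : ℕ) (q : Fin (m + 1))
    (hp : ∀ (t : k) (g : 𝔾), ψ (t • g) = t • ψ g)
    (t : k) (x : Hc (G ((m : ℤ) - (q : ℕ))) q) : Phi1 h m q (t • x) = t • Phi1 h m q x := by
  obtain ⟨c, hc, rfl⟩ := exists_cls x
  have e : Psi ψ (sing q (t • c)) = t • Psi ψ (sing q c) := by
    funext n i
    change Psi ψ (sing q (t • c)) n i = t • Psi ψ (sing q c) n i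
    rw [Psi_sing, Psi_sing]
    split_ifs
    · rw [Pi.smul_apply, hp]
      rfl
    · rw [smul_zero]
  have h1 : t • cls (Zc (G ((m : ℤ) - (q : ℕ))) q) (Bc (G ((m : ℤ) - (q : ℕ))) q) c hc =
    cls _ _ (t • c) (Submodule.smul_mem _ t hc) := rfl
  have h2 : t • cls (Zt d K m) (Bt d K m) (Psi ψ (sing q c)) (sing_Psi_mem h m q hc) =
    cls _ _ (t • Psi ψ (sing q c)) (Submodule.smul_mem _ _ (sing_Psi_mem h m q hc)) := rfl
  rw [h1, Phi1_cls, Phi1_cls, h2]
  congr 1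

/-- **The inequality**, linear case. -/
theorem sum_finrank_le_lin (h : Hyp d.toAddMonoidHom K G ψ)
    (hp : ∀ (t : k) (g : 𝔾), ψ (t • g) = t • ψ g) (m : ℕ)
    (hsurj : ∀ a ≤ (m : ℤ), Surj d.toAddMonoidHom K G ψ a)
    (hinj : ∀ a ≤ (m : ℤ), Inj d.toAddMonoidHom K G ψ a)
    (hfin : ∀ a ≤ m, Module.Finite k (Hc (K (a : ℤ)) (m - a))) :
    ∑ a ∈ Finset.range (m + 1), Module.finrank k (Hc (G (a : ℤ)) (m - a)) ≤
      ∑ a ∈ Finset.range (m + 1), Module.finrank k (Hc (K (a : ℤ)) (m - a)) := by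
  obtain ⟨h1, h1'⟩ := finrank_Ht_le d h.sysK h.dd m hfin
  refine le_trans ?_ h1'
  let Φ : (∀ q : Fin (m + 1), Hc (G ((m : ℤ) - (q : ℕ))) q) →ₗ[k] Ht d K m :=
    { toFun := Phi h m
      map_add' := map_add _
      map_smul' := fun t x => by
        rw [Phi_apply, Phi_apply, RingHom.id_apply, Finset.smul_sum]
        exact Finset.sum_congr rfl fun q _ => Phi1_smul h m q hp t (x q) }
  have hΦ : Function.Injective Φ := Phi_injective h m hsurj hinj
  have h4 := sum_finrank_le_of_injective (fun q : Fin (m + 1) => Hc (G ((m : ℤ) - (q : ℕ))) q) Φ hΦ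
  rwa [K912.Num.sum_reindex m (fun a q => Module.finrank k (Hc (G a) q))] at h4

end Lin

open scoped Nat

variable {ι R' R L' L : Type*} [CommRing R'] [CommRing R] [AddCommGroup L'] [Module R' L']
  [AddCommGroup L] [Module R L] (X : Dat ι R' R L' L)
  (F : ι → ExteriorAlgebra R' L' →+* ExteriorAlgebra R L) (p : ℕ)
variable (k : Type*) [Field k] [Algebra k R'] [Module k L'] [IsScalarTower k R' L']
  [Algebra k R] [Module k L] [IsScalarTower k R L]

/-- Lattices and the local Cartier isomorphism. -/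
structure LatDat where
  /-- functions on the twist -/
  A' : Set ι → Subalgebra k R'
  /-- forms on the twist -/
  N' : Set ι → Submodule k L'
  /-- functions -/
  A : Set ι → Subalgebra k R
  /-- forms -/
  N : Set ι → Submodule k L
  A'_mono : Monotone A'
  N'_mono : Monotone N'
  A_mono : Monotone A
  N_mono : Monotone N
  hk : ∀ t : k, X.φ (algebraMap k R' t) = algebraMap k R t
  hF : ∀ i b, F i (algebraMap R' _ b) = algebraMap R _ (X.φ b)
  hFι : ∀ i w, F i (ExteriorAlgebra.ι R' w) = ExteriorAlgebra.ι R (X.f i w)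
  hφ : ∀ s, s.Nonempty → ∀ b ∈ A' s, X.φ b ∈ A s
  f_mem : ∀ s, ∀ i ∈ s, ∀ w ∈ N' s, X.f i w ∈ N s
  h_mem : ∀ s, ∀ i ∈ s, ∀ j ∈ s, ∀ w ∈ N' s, X.h i j w ∈ A s
  d_mem : ∀ s, s.Nonempty → ∀ a, ∀ y ∈ latZ (Subalgebra.toSubmodule (A s)) (N s) a,
    X.d y ∈ latZ (Subalgebra.toSubmodule (A s)) (N s) (a + 1)
  surj : ∀ s, ∀ i ∈ s, ∀ (a : ℕ), a < p → ∀ y ∈ lat (Subalgebra.toSubmodule (A s)) (N s) a, X.d y = 0 →
    ∃ g ∈ lat (Subalgebra.toSubmodule (A' s)) (N' s) a,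
      ∃ z ∈ latZ (Subalgebra.toSubmodule (A s)) (N s) ((a : ℤ) - 1), y = F i g + X.d z
  inj : ∀ s, ∀ i ∈ s, ∀ (a : ℕ), a < p → ∀ g ∈ lat (Subalgebra.toSubmodule (A' s)) (N' s) a,
    ∀ z ∈ latZ (Subalgebra.toSubmodule (A s)) (N s) ((a : ℤ) - 1), F i g = X.d z → g = 0

variable {X F p k} (𝒟 : LatDat X F p k)

namespace LatDat

open Classical in
/-- The system on the twist. -/
noncomputable def G (a : ℤ) (s : Set ι) : Submodule k (ExteriorAlgebra R' L') :=
  if s.Nonempty then latZ (Subalgebra.toSubmodule (𝒟.A' s)) (𝒟.N' s) a else ⊥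

open Classical in
/-- The system. -/
noncomputable def K (a : ℤ) (s : Set ι) : Submodule k (ExteriorAlgebra R L) :=
  if s.Nonempty then latZ (Subalgebra.toSubmodule (𝒟.A s)) (𝒟.N s) a else ⊥

theorem G_ne {s : Set ι} (hs : s.Nonempty) (a : ℤ) :
    𝒟.G a s = latZ (Subalgebra.toSubmodule (𝒟.A' s)) (𝒟.N' s) a := if_pos hs

theorem K_ne {s : Set ι} (hs : s.Nonempty) (a : ℤ) :
    𝒟.K a s = latZ (Subalgebra.toSubmodule (𝒟.A s)) (𝒟.N s) a := if_pos hs

theorem G_empty (a : ℤ) : 𝒟.G a ∅ = ⊥ := if_neg (by simp)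

theorem K_empty (a : ℤ) : 𝒟.K a ∅ = ⊥ := if_neg (by simp)

theorem G_mono (a : ℤ) : Monotone (𝒟.G a) := by
  intro s t hst
  rcases s.eq_empty_or_nonempty with rfl | hs
  · rw [G_empty]
    exact bot_le
  · rw [𝒟.G_ne hs, 𝒟.G_ne (hs.mono hst)]
    exact latZ_mono (𝒟.A'_mono hst) (𝒟.N'_mono hst) a

theorem K_mono (a : ℤ) : Monotone (𝒟.K a) := by
  intro s t hst
  rcases s.eq_empty_or_nonempty with rfl | hs
  · rw [K_empty]
    exact bot_le
  · rw [𝒟.K_ne hs, 𝒟.K_ne (hs.mono hst)]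
    exact latZ_mono (𝒟.A_mono hst) (𝒟.N_mono hst) a

/-- The differential, `k`-linear. -/
noncomputable def dk : ExteriorAlgebra R L →ₗ[k] ExteriorAlgebra R L :=
  { X.d with map_smul' := d_smul_k X 𝒟.hk }

theorem dk_apply (x : ExteriorAlgebra R L) : 𝒟.dk x = X.d x := rfl

theorem dk_toAddMonoidHom : 𝒟.dk.toAddMonoidHom = X.d := rfl

/-- The hypotheses of the staircase argument. -/
theorem hyp : Hyp (k := k) 𝒟.dk.toAddMonoidHom 𝒟.K 𝒟.G (Ψ X) where
  sysK :=
    { mono := 𝒟.K_mono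
      neg := fun a ha s => by
        rcases s.eq_empty_or_nonempty with rfl | hs
        · exact 𝒟.K_empty a
        · rw [𝒟.K_ne hs, latZ_neg _ _ ha]
      d_mem := fun a s w hw => by
        rcases s.eq_empty_or_nonempty with rfl | hs
        · rw [𝒟.K_empty] at hw
          rw [(Submodule.mem_bot k).1 hw, map_zero]
          exact Submodule.zero_mem _
        · rw [𝒟.K_ne hs] at hw ⊢
          exact 𝒟.d_mem s hs a w hw }
  sysG :=
    { mono := 𝒟.G_mono
      neg := fun a ha s => by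
        rcases s.eq_empty_or_nonempty with rfl | hs
        · exact 𝒟.G_empty a
        · rw [𝒟.G_ne hs, latZ_neg _ _ ha]
      d_mem := fun a s w _ => Submodule.zero_mem _ }
  dd := X.dd
  closed := D_Ψ X
  dep := dep_Ψ X
  mem a s g hg n i hi := by
    have hs : s.Nonempty := (rg_nonempty n i).mono hi
    rw [𝒟.G_ne hs] at hg
    rw [𝒟.K_ne hs]
    exact Ψ_mem X 𝒟.hk _ _ _ _ s (𝒟.hφ s hs) (𝒟.f_mem s) (𝒟.h_mem s) a hg n i hi

theorem latZ_of_ofNat {Q : Submodule k R} {N : Submodule k L} (a : ℕ) : latZ Q N (Int.ofNat a) = lat Q N a :=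
  rfl

theorem surj' [CharP k p] [Fact p.Prime] (a : ℤ) (ha : a < p) :
    Surj (k := k) 𝒟.dk.toAddMonoidHom 𝒟.K 𝒟.G (Ψ X) a := by
  intro s _ i hi x hx hdx
  have hs : s.Nonempty := ⟨_, hi⟩
  rw [𝒟.K_ne hs] at hx
  simp only [𝒟.K_ne hs, 𝒟.G_ne hs]
  cases a with
  | negSucc a =>
    refine ⟨0, Submodule.zero_mem _, 0, Submodule.zero_mem _, ?_⟩
    rw [(Submodule.mem_bot k).1 hx, map_zero, map_zero]
    exact (add_zero _).symm
  | ofNat a =>
    have ha' : a < p := Int.ofNat_lt.1 ha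
    have hu : (a ! : k) ≠ 0 := by
      rw [Ne, CharP.cast_eq_zero_iff k p, (Fact.out : p.Prime).dvd_factorial]
      omega
    obtain ⟨g, hg, z, hz, hyz⟩ := 𝒟.surj s (i 0) hi a ha' x hx hdx
    refine ⟨(a ! : k)⁻¹ • g, Submodule.smul_mem _ _ hg, z, hz, ?_⟩
    rw [Ψ_smul_k X 𝒟.hk, hyz]
    congr 1
    change _ = (a ! : k)⁻¹ • Ψ X g 0 i
    rw [Ψ_apply_zero X F 𝒟.hF 𝒟.hFι a (lat_le_exteriorPower _ _ a hg) i, ← Nat.cast_smul_eq_nsmul k, smul_smul,
      inv_mul_cancel₀ hu, one_smul]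

theorem inj' [CharP k p] [Fact p.Prime] (a : ℤ) (ha : a < p) :
    Inj (k := k) 𝒟.dk.toAddMonoidHom 𝒟.K 𝒟.G (Ψ X) a := by
  intro s _ i hi g hg y hy h
  have hs : s.Nonempty := ⟨_, hi⟩
  rw [𝒟.G_ne hs] at hg
  rw [𝒟.K_ne hs] at hy
  cases a with
  | negSucc a => exact (Submodule.mem_bot k).1 hg
  | ofNat a =>
    have ha' : a < p := Int.ofNat_lt.1 ha
    have hu : (a ! : k) ≠ 0 := by
      rw [Ne, CharP.cast_eq_zero_iff k p, (Fact.out : p.Prime).dvd_factorial]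
      omega
    rw [Ψ_apply_zero X F 𝒟.hF 𝒟.hFι a (lat_le_exteriorPower _ _ a hg) i, ← Nat.cast_smul_eq_nsmul k] at h
    refine 𝒟.inj s (i 0) hi a ha' g hg ((a ! : k)⁻¹ • y) (Submodule.smul_mem _ _ hy) ?_
    rw [d_smul_k X 𝒟.hk]
    change _ = (a ! : k)⁻¹ • 𝒟.dk.toAddMonoidHom y
    rw [← h, smul_smul, inv_mul_cancel₀ hu, one_smul]

/-- **The inequality.** -/
theorem sum_finrank_le [CharP k p] [Fact p.Prime] (m : ℕ) (hm : m < p)
    (hfin : ∀ a ≤ m, Module.Finite k (Hc (𝒟.K (a : ℤ)) (m - a))) :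
    ∑ a ∈ Finset.range (m + 1), Module.finrank k (Hc (𝒟.G (a : ℤ)) (m - a)) ≤
      ∑ a ∈ Finset.range (m + 1), Module.finrank k (Hc (𝒟.K (a : ℤ)) (m - a)) :=
  sum_finrank_le_lin 𝒟.hyp (Ψ_smul_k X 𝒟.hk) m (fun a ha => 𝒟.surj' a (by omega))
    (fun a ha => 𝒟.inj' a (by omega)) hfin

end LatDat

end K776.RAlt
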