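import Groth.Agent.DelIll.K776.RFrame
import Groth.Agent.DelIll.K776.RNum
import Groth.Agent.DelIll.K912.Fam

/-!
# The inequality of Hodge cohomologies for relative geometric data
-/

set_option autoImplicit false

universe u

open CategoryTheory CategoryTheory.Limits AlgebraicGeometry Opposite TopologicalSpace
open Groth.Agent.Sga67.Sec Groth.Agent.Sga67.LocBasis Groth.Agent.Sga67.ExtSheaf
open Groth.Agent.Fga.MumCech
open K912.Alt K912.Frame K912.LatCmp K912.Seq K912.Fam K912.Dim K912.Stair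
open K776.RAlt K776.RFrame

namespace K776.RGeo

attribute [local instance] algV modS modP

/-- One side of the geometric data of one component: a covering, an ambient open, local bases. -/
structure Side (k : Type u) [Field k] (X : Scheme.{u}) [X.Over (Spec (CommRingCat.of k))]
    (E : X.Modules) (n : ℕ) (ι : Type u) where
  /-- the cover -/
  U : ι → X.Opens
  aff : ∀ s : Set ι, s.Nonempty → IsAffineOpen (Us U s)
  /-- the ambient open -/
  V₀ : X.affineOpens
  le : ∀ i, V₀.1 ≤ U i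
  inj : ∀ s : Set ι, s.Nonempty → Function.Injective (resO X (le_Us U le s))
  /-- local bases -/
  b : ∀ i, Fin n → Sec E (U i)
  hb : ∀ i, IsLocBasis (b i)

variable {k : Type u} [Field k] {X : Scheme.{u}} [X.Over (Spec (CommRingCat.of k))]
  {E : X.Modules} {n : ℕ} {ι : Type u} (S : Side k X E n ι)

/-- The ambient ring. -/
abbrev Side.R : Type u := Γ(X, S.V₀.1)

/-- The ambient module. -/
abbrev Side.L : Type u := Sec E S.V₀.1

/-- The functions on the finite intersection. -/
noncomputable def Side.As (s : Set ι) : Subalgebra k S.R := Av k (le_Us S.U S.le s)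

/-- The one-forms on the finite intersection. -/
noncomputable def Side.Ns (s : Set ι) : Submodule k S.L := Nv k E (le_Us S.U S.le s)

theorem Side.As_mono : Monotone S.As := by
  intro s t hst x hx
  obtain ⟨y, rfl⟩ := (mem_Av k _).1 hx
  exact (mem_Av k _).2 ⟨resO X (Us_anti S.U hst) y, resO_resO _ _ y⟩

theorem Side.Ns_mono : Monotone S.Ns := by
  intro s t hst x hx
  obtain ⟨y, rfl⟩ := (mem_Nv k E _).1 hx
  exact (mem_Nv k E _).2 ⟨res E (Us_anti S.U hst) y, res_res E _ _ y⟩

section La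

variable {La : ℕ → X.Modules} (φ : ∀ a, Phi a E (La a)) (hφ : ∀ a, PhiComp (φ a))

/-- The lattices. -/
noncomputable def Side.latN (a : ℕ) : Set ι → Submodule k (ExteriorAlgebra S.R S.L) :=
  Nl k S.U S.le (La a) (rphik (φ a) S.V₀ k)

include hφ in
theorem Side.latN_ne (a : ℕ) {s : Set ι} (hs : s.Nonempty) :
    S.latN φ a s = latZ (Subalgebra.toSubmodule (S.As s)) (S.Ns s) (a : ℤ) :=
  Nl_eq (φ a) S.V₀ k S.U S.le (hφ a) hs (S.aff s hs)

include hφ in
theorem Side.rho_injective (a : ℕ) (q : ℕ) (i : Fin (q + 1) → ι) :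
    Function.Injective (rho k (La a) (rphik (φ a) S.V₀ k) (le_iInf_U S.U S.le i)) := by
  have h1 := S.aff (Set.range i) (Set.range_nonempty i)
  have h3 := S.inj (Set.range i) (Set.range_nonempty i)
  have h2 : Us S.U (Set.range i) = ⨅ j, S.U (i j) := by
    rw [Us, iInf_range]
  have haff : IsAffineOpen (⨅ j, S.U (i j)) := by
    rwa [h2] at h1
  have hρ : Function.Injective (resO X (le_iInf_U S.U S.le i)) := by
    have key : ∀ (V : X.Opens) (hV : S.V₀.1 ≤ V), V = ⨅ j, S.U (i j) →
        Function.Injective (resO X hV) →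
        Function.Injective (resO X (le_iInf_U S.U S.le i)) := by
      rintro _ hV rfl h
      exact h
    exact key _ _ h2 h3
  have hU0 : IsAffineOpen (S.U (i 0)) := by
    have h4 := S.aff {i 0} (Set.singleton_nonempty _)
    have h5 : Us S.U {i 0} = S.U (i 0) := by
      rw [Us]; simp
    rwa [h5] at h4
  exact rho_rphik_injective (φ a) S.V₀ k (U := ⟨S.U (i 0), hU0⟩)
    (V := ⟨_, haff⟩) (iInf_le (fun j => S.U (i j)) 0) (le_iInf_U S.U S.le i) hρ
    (hφ a) (S.hb (i 0))

end La

section fam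

variable {C : Type u} {ιC : C → Type u} (G : ∀ c, Side k X E n (ιC c))

/-- The sides cover `X` and are disjoint. -/
structure IsFam : Prop where
  disj : Disj (fun c => (G c).U)
  cov : ⨆ s, tot (fun c => (G c).U) s = ⊤

variable {G}

theorem IsFam.aff (hG : IsFam G) (s : Finset (Σ c, ιC c)) (hs : s.Nonempty) :
    IsAffineOpen (⨅ i ∈ s, tot (fun c => (G c).U) i) := by
  obtain ⟨⟨c, i₀⟩, hi₀⟩ := hs
  by_cases h : ∀ i ∈ s, i.1 = c
  · have e : (⨅ i ∈ s, tot (fun c => (G c).U) i) = Us (G c).U {i | (⟨c, i⟩ : Σ c, ιC c) ∈ s} := by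
      apply le_antisymm
      · exact le_iInf fun i => le_iInf fun hi => iInf_le_of_le ⟨c, i⟩ (iInf_le_of_le hi le_rfl)
      · refine le_iInf fun i => le_iInf fun hi => ?_
        obtain ⟨c', i⟩ := i
        have hc' : c' = c := h _ hi
        subst hc'
        exact iInf_le_of_le i (iInf_le_of_le hi le_rfl)
    rw [e]
    exact (G c).aff _ ⟨i₀, hi₀⟩
  · push Not at h
    obtain ⟨i, hi, hic⟩ := h
    have e : (⨅ i ∈ s, tot (fun c => (G c).U) i) = ⊥ := by
      rw [eq_bot_iff, ← hG.disj i.1 c i.2 i₀ hic]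
      exact le_inf (iInf_le_of_le i (iInf_le_of_le hi le_rfl))
        (iInf_le_of_le ⟨c, i₀⟩ (iInf_le_of_le hi₀ le_rfl))
    rw [e]
    exact isAffineOpen_bot X

theorem IsFam.acyc (hG : IsFam G) {N : X.Modules} (hN : Coh.IsQCoh N) :
    AcycM (tot (fun c => (G c).U)) N := acycM _ _ hG.aff hN

variable {La : ℕ → X.Modules} (φ : ∀ a, Phi a E (La a)) (hφ : ∀ a, PhiComp (φ a))

include hφ in
theorem finite_fam (hG : IsFam G) (a q : ℕ) (hN : Coh.IsQCoh (La a))
    (h : Module.Finite k (Coh.HH X (La a) q)) (c : C) :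
    Module.Finite k (Hc ((G c).latN φ a) q) :=
  letI : ∀ c, AddCommGroup (ExteriorAlgebra (G c).R (G c).L) := fun c => inferInstance
  letI : ∀ c, Module k (ExteriorAlgebra (G c).R (G c).L) := fun c => inferInstance
  finite_comp (W := fun c => ExteriorAlgebra (G c).R (G c).L) k (La a) (fun c => (G c).le) (fun c => rphik (φ a) (G c).V₀ k)
    (fun c => (G c).rho_injective φ hφ a) hG.disj hG.cov (hG.acyc hN) q h c

variable [Fintype C]

include hφ in
theorem finrank_fam (hG : IsFam G) (a q : ℕ) (hN : Coh.IsQCoh (La a))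
    (h : Module.Finite k (Coh.HH X (La a) q)) :
    Module.finrank k (Coh.HH X (La a) q) = ∑ c, Module.finrank k (Hc ((G c).latN φ a) q) :=
  letI : ∀ c, AddCommGroup (ExteriorAlgebra (G c).R (G c).L) := fun c => inferInstance
  letI : ∀ c, Module k (ExteriorAlgebra (G c).R (G c).L) := fun c => inferInstance
  K912.Fam.finrank_eq (W := fun c => ExteriorAlgebra (G c).R (G c).L) k (La a) (fun c => (G c).le) (fun c => rphik (φ a) (G c).V₀ k)
    (fun c => (G c).rho_injective φ hφ a) hG.disj hG.cov (hG.acyc hN) q h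

include hφ in
theorem finrank_fam_le (hG : IsFam G) (a q : ℕ) (hN : Coh.IsQCoh (La a)) :
    Module.finrank k (Coh.HH X (La a) q) ≤ ∑ c, Module.finrank k (Hc ((G c).latN φ a) q) :=
  letI : ∀ c, AddCommGroup (ExteriorAlgebra (G c).R (G c).L) := fun c => inferInstance
  letI : ∀ c, Module k (ExteriorAlgebra (G c).R (G c).L) := fun c => inferInstance
  finrank_le (W := fun c => ExteriorAlgebra (G c).R (G c).L) k (La a) (fun c => (G c).le) (fun c => rphik (φ a) (G c).V₀ k)
    (fun c => (G c).rho_injective φ hφ a) hG.disj hG.cov (hG.acyc hN) q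

end fam

section pair

variable {X' : Scheme.{u}} [X'.Over (Spec (CommRingCat.of k))] {E' : X'.Modules}

/-- The geometric data of one component. -/
structure Geo (p : ℕ) (S : Side k X E n ι) (S' : Side k X' E' n ι) where
  /-- the Deligne-Illusie data -/
  D : Dat ι S'.R S.R S'.L S.L
  /-- the ring homomorphisms -/
  F : ι → ExteriorAlgebra S'.R S'.L →+* ExteriorAlgebra S.R S.L
  /-- the lattices -/
  LD : LatDat D F p k
  eA' : LD.A' = S'.As
  eN' : LD.N' = S'.Ns
  eA : LD.A = S.As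
  eN : LD.N = S.Ns

variable {p : ℕ} {S : Side k X E n ι} {S' : Side k X' E' n ι} (G : Geo p S S')
  {La : ℕ → X.Modules} (φ : ∀ a, Phi a E (La a)) (hφ : ∀ a, PhiComp (φ a))
  {La' : ℕ → X'.Modules} (φ' : ∀ a, Phi a E' (La' a)) (hφ' : ∀ a, PhiComp (φ' a))

include hφ in
theorem Geo.K_eq (a : ℕ) : G.LD.K (a : ℤ) = S.latN φ a := by
  funext s
  rcases s.eq_empty_or_nonempty with rfl | hs
  · rw [G.LD.K_empty]
    exact (Nl_empty _ _ _ _ _).symm
  · rw [G.LD.K_ne hs, S.latN_ne φ hφ a hs, G.eA, G.eN]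

include hφ' in
theorem Geo.G_eq (a : ℕ) : G.LD.G (a : ℤ) = S'.latN φ' a := by
  funext s
  rcases s.eq_empty_or_nonempty with rfl | hs
  · rw [G.LD.G_empty]
    exact (Nl_empty _ _ _ _ _).symm
  · rw [G.LD.G_ne hs, S'.latN_ne φ' hφ' a hs, G.eA', G.eN']

include G hφ hφ' in
/-- The inequality for one component. -/
theorem Geo.ineq [CharP k p] [Fact p.Prime] (m : ℕ) (hm : m < p)
    (hfin : ∀ a ≤ m, Module.Finite k (Hc (S.latN φ a) (m - a))) :
    ∑ a ∈ Finset.range (m + 1), Module.finrank k (Hc (S'.latN φ' a) (m - a)) ≤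
      ∑ a ∈ Finset.range (m + 1), Module.finrank k (Hc (S.latN φ a) (m - a)) := by
  have h1 := G.LD.sum_finrank_le m hm (fun a ha => by rw [G.K_eq φ hφ]; exact hfin a ha)
  refine le_trans (le_of_eq (Finset.sum_congr rfl fun a _ => ?_))
    (h1.trans (le_of_eq (Finset.sum_congr rfl fun a _ => ?_)))
  · rw [G.G_eq φ' hφ' a]
  · rw [G.K_eq φ hφ a]

variable {C : Type u} [Fintype C] {ιC : C → Type u} {SC : ∀ c, Side k X E n (ιC c)}
  {SC' : ∀ c, Side k X' E' n (ιC c)}

include hφ hφ' in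
/-- **The inequality.** -/
theorem main_ineq (hS : IsFam SC) (hS' : IsFam SC') (GC : ∀ c, Geo p (SC c) (SC' c))
    [CharP k p] [Fact p.Prime] (hq : ∀ a, Coh.IsQCoh (La a)) (hq' : ∀ a, Coh.IsQCoh (La' a))
    (hfin : ∀ a b, Module.Finite k (Coh.HH X (La a) b)) (m : ℕ) (hm : m < p) :
    ∑ a ∈ Finset.range (m + 1), Module.finrank k (Coh.HH X' (La' a) (m - a)) ≤
      ∑ a ∈ Finset.range (m + 1), Module.finrank k (Coh.HH X (La a) (m - a)) := by
  refine le_trans (Finset.sum_le_sum fun a _ => finrank_fam_le φ' hφ' hS' a (m - a) (hq' a)) ?_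
  refine le_trans ?_ (le_of_eq (Finset.sum_congr rfl fun a _ =>
    (finrank_fam φ hφ hS a (m - a) (hq a) (hfin a _)).symm))
  rw [Finset.sum_comm, Finset.sum_comm (s := Finset.range (m + 1)) (t := Finset.univ)]
  exact Finset.sum_le_sum fun c _ => (GC c).ineq φ hφ φ' hφ' m hm fun a _ =>
    finite_fam φ hφ hS a (m - a) (hq a) (hfin a _) c

end pair

end K776.RGeo
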