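import Groth.Agent.DelIll.K776.RCGeo
import Groth.Agent.DelIll.K776.RFamI
import Groth.Agent.Books.NITComplete
import Groth.Agent.EGA41.K99.NilpPow
import Groth.Agent.S15539
import Groth.Agent.S0002
import Groth.Agent.Nrm16.K136.UnivOmega
import Groth.Agent.Coherent.K348.HomFam
import Groth.Agent.Dual3.K477.ExtCoh

/-!
# The inequality over artinian quotients of the base
-/

set_option autoImplicit false
set_option linter.unusedSectionVars false
universe u

open CategoryTheory CategoryTheory.Limits AlgebraicGeometry Opposite TopologicalSpace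
open Groth.Agent.Sga67.Sec Groth.Agent.Sga67.LocBasis Groth.Agent.Fga.MumCech
open K905.GeoX K905.GeoUp K922.Coord K224.RelGD K224.RelBase K224.RelCartier K224.RelGeom
open K776.RCh K776.RTw K776.RLam K776.RDat K776.RCtx K776.RTop K776.RGeo K776.RSide K776.RLoc K776.RComp
open K912.LatCmp K912.Frame K776.Intf

namespace K776.RI2

section len

variable {k A : Type u} [Field k] [CommRing A] (κ : k →+* A) {Y : Scheme.{u}}

theorem toGlobal_comp (q : Y ⟶ Spec (CommRingCat.of A)) (t : k) :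
    Coh.toGlobal (q ≫ Spec.map (CommRingCat.ofHom κ)) t = Coh.toGlobal q (κ t) := by
  have h1 := congr($((Scheme.ΓSpecIso_inv_naturality (CommRingCat.ofHom κ))).hom t)
  change ((q ≫ Spec.map (CommRingCat.ofHom κ)).appTop).hom ((Scheme.ΓSpecIso (CommRingCat.of k)).inv.hom t) =
    (q.appTop).hom ((Scheme.ΓSpecIso (CommRingCat.of A)).inv.hom (κ t))
  have h2 : (q ≫ Spec.map (CommRingCat.ofHom κ)).appTop =
      (Spec.map (CommRingCat.ofHom κ)).appTop ≫ q.appTop := Scheme.Hom.comp_appTop _ _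
  rw [h2]
  exact congrArg (q.appTop).hom h1.symm

/-- The two module structures. -/
theorem modHH_overK (q : Y ⟶ Spec (CommRingCat.of A)) (M : Y.Modules) (n : ℕ) :
    (letI := overK κ q
     (inferInstance : Module k (Coh.HH Y M n))) =
    (letI := modHH q M n
     (Module.compHom (Coh.HH Y M n) κ : Module k (Coh.HH Y M n))) := by
  refine Module.ext' _ _ fun t x => ?_
  change Coh.toGlobal (q ≫ Spec.map (CommRingCat.ofHom κ)) t • x = Coh.toGlobal q (κ t) • x
  rw [toGlobal_comp]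

/-- Lengths and dimensions. -/
theorem len_eq (LF : LenStmt.{u}) [IsLocalRing A] [IsArtinianRing A]
    (hκ : Function.Bijective ((IsLocalRing.residue A).comp κ)) (q : Y ⟶ Spec (CommRingCat.of A)) [IsProper q]
    (M : Y.Modules) (hM : Coh.IsCoh M) (n : ℕ) :
    letI := overK κ q
    Module.Finite k (Coh.HH Y M n) ∧ len q M n = (Module.finrank k (Coh.HH Y M n) : ℕ∞) := by
  have hfin : @Module.Finite A (Coh.HH Y M n) _ _ (modHH q M n) :=
    @Groth.Agent.S0002.result A _ _ Y ⟨q⟩ ‹_› M hM n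
  have h := @LF A _ _ _ k _ κ hκ (Coh.HH Y M n) _ (modHH q M n) hfin
  have e := modHH_overK κ q M n
  refine ⟨?_, ?_⟩
  · have h1 := h.1
    rw [← e] at h1
    exact h1
  · have h2 := h.2
    rw [← e] at h2
    exact h2

end len

/-- A coefficient field. -/
theorem exists_coeff (p : ℕ) [Fact p.Prime] (A : Type u) [CommRing A] [IsLocalRing A] [IsArtinianRing A] [CharP A p] :
    ∃ σ : IsLocalRing.ResidueField A →+* A, Function.Bijective ((IsLocalRing.residue A).comp σ) := by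
  obtain ⟨n, hn⟩ := IsArtinianRing.isNilpotent_jacobson_bot (R := A)
  rw [IsLocalRing.jacobson_eq_maximalIdeal ⊥ bot_ne_top] at hn
  have : IsAdicComplete (IsLocalRing.maximalIdeal A) A :=
    K99.NilpPow.isAdicComplete_of_pow_eq_bot (IsLocalRing.maximalIdeal A) n hn A
  obtain ⟨σ, hσ⟩ := Groth.Agent.Books.NITComplete.exists_coefficientField p A
  refine ⟨σ, ?_⟩
  have : (IsLocalRing.residue A).comp σ = RingHom.id _ := RingHom.ext hσ
  rw [this]
  exact Function.bijective_id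

/-- The reduction of the base is a lifting. -/
theorem isLft (p : ℕ) [Fact p.Prime] (R : Type u) [CommRing R] [CharP R p] (s : Setup p R) :
    letI := s.ring
    IsLft p s.π :=
  letI := s.ring
  { surj := s.surj
    ker := fun b hb => by
      obtain ⟨c, hc⟩ := (s.ker b).1 hb
      exact ⟨c, by rw [hc, nsmul_eq_mul]⟩
    pp := s.pp
    tor := fun b hb => s.flat b (by rw [← nsmul_eq_mul]; exact hb) }

/-- The data of the components from the choice of charts. -/
theorem exists_cdata (FM : FamStmt.{u}) (R : Type u) [CommRing R] (X : Scheme.{u})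
    (f : X ⟶ Spec (CommRingCat.of R)) [IsProper f]
    (d : ℕ) [SmoothOfRelativeDimension d f]
    (A : Type u) [CommRing A] [IsLocalRing A] [IsArtinianRing A] (φ : R →+* A) (hφ : Function.Surjective φ)
    (Y : Scheme.{u}) (g : Y ⟶ X) (q : Y ⟶ Spec (CommRingCat.of A))
    (hg : IsPullback g q f (Spec.map (CommRingCat.ofHom φ))) :
    ∃ (C : Type u) (_ : Fintype C) (ι : C → Type u) (_ : ∀ c, Finite (ι c)) (_ : ∀ c, Nonempty (ι c))
      (cd : ∀ c, CData f g d (ι c)),
      (⨆ x : Σ c, ι c, g ⁻¹ᵁ ((cd x.1).U x.2) = ⊤) ∧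
      (∀ c c' i j, c ≠ c' → g ⁻¹ᵁ ((cd c).U i) ⊓ g ⁻¹ᵁ ((cd c').U j) = ⊥) := by
  obtain ⟨C, iC, ι, iι, nι, U, v, V, le, h1, h2, h3, h4, h5, h6⟩ := FM R X f d A φ hφ Y g q hg
  choose y hy using h3
  exact ⟨C, iC, ι, iι, nι, fun c => ⟨U c, v c, V c, le c, h1 c, h2 c, y c, hy c, h6 c⟩, h4, h5⟩

attribute [local instance] algV modS modP

/-- **(I2)** -/
theorem i2 (FM : FamStmt.{u}) (LF : LenStmt.{u}) : I2Stmt.{u} := by
  intro p hp R _ _ _ s A _ _ _ _ φ hφ Y g q hg Y' g' q' hg' n hn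
  let _ := s.ring
  have := s.proper
  have := s.smooth
  have := s.flat'
  have hsep : s.X.IsSeparated := (HasAffineProperty.iff_of_isAffine (P := @IsSeparated) (f := s.f)).mp inferInstance
  have hfac : Spec.map (CommRingCat.ofHom ((frobenius A p).comp φ)) =
      Spec.map (CommRingCat.ofHom (frobenius A p)) ≫ Spec.map (CommRingCat.ofHom φ) := by
    rw [← Spec.map_comp]
    rfl
  rw [hfac] at hg'
  obtain ⟨wA, hw1, hw2⟩ : ∃ wA : Y' ⟶ Y, wA ≫ g = g' ∧
      wA ≫ q = q' ≫ Spec.map (CommRingCat.ofHom (frobenius A p)) :=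
    ⟨hg.lift g' (q' ≫ Spec.map (CommRingCat.ofHom (frobenius A p))) (by rw [Category.assoc, hg'.w]),
      hg.lift_fst _ _ _, hg.lift_snd _ _ _⟩
  subst hw1
  have pbA : IsPullback wA q' q (Spec.map (CommRingCat.ofHom (frobenius A p))) := IsPullback.of_right hg' hw2 hg
  have : FrobSch.IsCharP Y p := FrobSch.IsCharP.of_hom q p
  have : FrobSch.IsCharP s.X p := FrobSch.IsCharP.of_hom s.f p
  obtain ⟨FA, HT⟩ := exists_isTw (p := p) pbA
  obtain ⟨F, HF⟩ := exists_isTw (p := p) s.hX'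
  have H : IsCtx p s.π s.f s.w s.f' F s.j' s.g' := ⟨HF, isLft p R s, s.hlift, s.flat'⟩
  have hpq : IsProper q := MorphismProperty.of_isPullback (P := @IsProper) hg inferInstance
  have hpq' : IsProper q' := MorphismProperty.of_isPullback (P := @IsProper) pbA inferInstance
  have hδ := K136.UnivOmega.isUniversal_dOmega q
  have hδ' := K136.UnivOmega.isUniversal_dOmega q'
  obtain ⟨C, iC, ι, iι, nι, cd, hcov, hdisj⟩ := exists_cdata FM R s.X s.f s.d A φ hφ Y g q hg
  obtain ⟨κ, hκ⟩ := exists_coeff p A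
  let _ : Y.Over (Spec (CommRingCat.of (IsLocalRing.ResidueField A))) := overK κ q
  let _ : Y'.Over (Spec (CommRingCat.of (IsLocalRing.ResidueField A))) := overK κ q'
  have hcharK : CharP (IsLocalRing.ResidueField A) p := by
    refine (CharP.charP_iff_prime_eq_zero hp.1).2 ?_
    have := congrArg (IsLocalRing.residue A) (CharP.cast_eq_zero A p)
    rwa [map_natCast, map_zero] at this
  have hS : IsFam (fun c => sideY hg hδ (cd c) (IsLocalRing.ResidueField A)) := ⟨fun c c' i j h => hdisj c c' i j h, hcov⟩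
  have hS' : IsFam (fun c => sideY' hg HT hδ hδ' (cd c) (IsLocalRing.ResidueField A)) := by
    refine ⟨fun c c' i j h => ?_, ?_⟩
    · have h1 : wA ⁻¹ᵁ (g ⁻¹ᵁ ((cd c).U i) ⊓ g ⁻¹ᵁ ((cd c').U j)) = wA ⁻¹ᵁ ⊥ := by rw [hdisj c c' i j h]
      exact h1
    · have h1 : wA ⁻¹ᵁ (⨆ x : Σ c, ι c, g ⁻¹ᵁ ((cd x.1).U x.2)) = ⊤ := by rw [hcov]; rfl
      rw [Scheme.Hom.preimage_iSup] at h1
      exact h1
  have hext : ∀ a, ExtPow.IsExtPow a (Omega.sheaf q) ((Scheme.Modules.pullback g).obj (s.Om a)) := fun a =>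
    Groth.Agent.S15539.result s.X _ Y _ s.f q g _ hg a (s.Om a) (s.hOm a)
  have hext' : ∀ a, ExtPow.IsExtPow a (Omega.sheaf q') ((Scheme.Modules.pullback (wA ≫ g)).obj (s.Om a)) := fun a =>
    Groth.Agent.S15539.result s.X _ Y' _ s.f q' (wA ≫ g) _ hg' a (s.Om a) (s.hOm a)
  choose φ₁ hφ₁ using fun a => Groth.Agent.Sga67.ExtSheaf.exists_phi (hext a)
  choose φ₂ hφ₂ using fun a => Groth.Agent.Sga67.ExtSheaf.exists_phi (hext' a)
  have hΩ : Coh.IsCoh (Omega.sheaf q) := K348.HomFam.isCoh_omega q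
  have hΩ' : Coh.IsCoh (Omega.sheaf q') := K348.HomFam.isCoh_omega q'
  have hc : ∀ a, Coh.IsCoh ((Scheme.Modules.pullback g).obj (s.Om a)) := fun a =>
    Groth.Agent.K477.ExtCoh.isCoh_of_isExtPow hΩ (hext a)
  have hc' : ∀ a, Coh.IsCoh ((Scheme.Modules.pullback (wA ≫ g)).obj (s.Om a)) := fun a =>
    Groth.Agent.K477.ExtCoh.isCoh_of_isExtPow hΩ' (hext' a)
  have GC : ∀ c, Nonempty (Geo p (sideY hg hδ (cd c) (IsLocalRing.ResidueField A))
      (sideY' hg HT hδ hδ' (cd c) (IsLocalRing.ResidueField A))) := fun c =>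
    K776.RCGeo.exists_geo H hg HT hδ hδ' (cd c) _ κ rfl rfl
  have key := main_ineq φ₁ hφ₁ φ₂ hφ₂ hS hS' (fun c => (GC c).some) (fun a => (hc a).1) (fun a => (hc' a).1)
    (fun a b => (len_eq κ LF hκ q _ (hc a) b).1) n hn
  rw [Finset.sum_congr rfl fun a _ => (len_eq κ LF hκ q' _ (hc' a) (n - a)).2,
    Finset.sum_congr rfl fun a _ => (len_eq κ LF hκ q _ (hc a) (n - a)).2, ← Nat.cast_sum, ← Nat.cast_sum, Nat.cast_le]
  exact key

end K776.RI2
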