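import Groth.Agent.DelIll.K776.RDat
import Groth.Agent.DelIll.K224.RelLam
import Mathlib.RingTheory.RingHom.Etale

/-!
# Twisted derivations from the functions attached to liftings of Frobenius
-/

set_option autoImplicit false

open K905 K224.RelM K224.RelPhi K224.RelCartier K224.RelLocal K224.RelGeom K904.Witt FrobAlg
open K776.RDat

namespace K776.RLam

universe u

section desc

variable {p : ℕ} [hp : Fact p.Prime] {At A1 B : Type u} [CommRing At] [CommRing A1] [CommRing B]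
  (G : GDat p At A1 B)

omit hp in
/-- Descent of functions on the fibre product. -/
theorem descend (hθ : Function.Surjective G.θ) (hker : ∀ a, G.θ a = 0 → ∃ b, a = p • b) {N : Type*}
    [AddCommGroup N] (Λ : P G →+ N) (h : ∀ (x : P G) (c : At), x.1 = (p • c, 0) → Λ x = 0) :
    ∃ D : B →+ N, ∀ x : P G, D x.1.2 = Λ x := by
  have hcong : ∀ x y : P G, x.1.2 = y.1.2 → Λ x = Λ y := by
    intro x y hxy
    have hx : G.θ x.1.1 = G.w x.1.2 := x.2
    have hy : G.θ y.1.1 = G.w y.1.2 := y.2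
    obtain ⟨c, hc⟩ := hker (x.1.1 - y.1.1) (by rw [map_sub, hx, hy, hxy, sub_self])
    have h1 : (x - y).1 = (p • c, 0) := Prod.ext hc (by
      change x.1.2 - y.1.2 = 0
      rw [hxy, sub_self])
    have h2 := h (x - y) c h1
    rw [map_sub, sub_eq_zero] at h2
    exact h2
  have hex : ∀ a : B, ∃ x : P G, x.1.2 = a := fun a => by
    obtain ⟨b, hb⟩ := hθ (G.w a)
    exact ⟨⟨(b, a), hb⟩, rfl⟩
  have hg : ∀ x : P G, Λ (hex x.1.2).choose = Λ x := fun x => hcong _ _ (hex x.1.2).choose_spec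
  refine ⟨AddMonoidHom.mk' (fun a => Λ (hex a).choose) fun a b => ?_, hg⟩
  obtain ⟨x, rfl⟩ := hex a
  obtain ⟨y, rfl⟩ := hex b
  have h1 : x.1.2 + y.1.2 = (x + y).1.2 := rfl
  rw [h1, hg, hg, hg, map_add]

variable {Rt R : Type u} [CommRing Rt] [CommRing R] (π : Rt →+* R) (ρ : Rt →+* At) (f : R →+* B)

/-- The rules for the function attached to a lifting of Frobenius. -/
structure IsLam (lam : P G → B) : Prop where
  add : ∀ a b, lam (a + b) = lam a + lam b - Cross.c p a.1.2 b.1.2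
  mul : ∀ a b, lam (a * b) = a.1.2 ^ p * lam b + b.1.2 ^ p * lam a
  pc : ∀ (x : P G) (c : At), x.1 = (p • c, 0) → lam x = G.F (G.θ c)
  cst : ∀ (x : P G) (r : Rt), x.1 = (ρ r ^ p, f (π r)) → lam x = 0

variable {G π ρ f}

/-- Descent to twisted derivations. -/
theorem descend_tw (hθ : Function.Surjective G.θ) (hker : ∀ a, G.θ a = 0 → ∃ b, a = p • b)
    (hπ : Function.Surjective π) (hρ : ∀ r, G.θ (ρ r) ^ p = G.w (f (π r)))
    {T N : Type*} [CommRing T] [AddCommGroup N] [Module T N] (t : B →+* T) (Λ : P G → N)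
    (hadd : ∀ x y, Λ (x + y) = Λ x + Λ y)
    (hmul : ∀ x y, Λ (x * y) = t x.1.2 ^ p • Λ y + t y.1.2 ^ p • Λ x)
    (hpc : ∀ (x : P G) (c : At), x.1 = (p • c, 0) → Λ x = 0)
    (hcst : ∀ (x : P G) (r : Rt), x.1 = (ρ r ^ p, f (π r)) → Λ x = 0) :
    ∃ D : B →+ N, TwDer p t (Set.range f) D ∧ ∀ x : P G, D x.1.2 = Λ x := by
  obtain ⟨D, hD⟩ := descend G hθ hker (AddMonoidHom.mk' Λ hadd) hpc
  refine ⟨D, ⟨fun a b => ?_, ?_⟩, hD⟩
  · have hex : ∀ a : B, ∃ x : P G, x.1.2 = a := fun a => by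
      obtain ⟨b, hb⟩ := hθ (G.w a)
      exact ⟨⟨(b, a), hb⟩, rfl⟩
    obtain ⟨x, rfl⟩ := hex a
    obtain ⟨y, rfl⟩ := hex b
    have h1 : x.1.2 * y.1.2 = (x * y).1.2 := rfl
    rw [h1, hD, hD, hD]
    exact hmul x y
  · rintro _ ⟨r, rfl⟩
    obtain ⟨r, rfl⟩ := hπ r
    have h1 : ((ρ r ^ p, f (π r)) : At × B) ∈ P G := by
      rw [mem_P, map_pow]
      exact hρ r
    exact (hD ⟨_, h1⟩).trans (hcst _ r rfl)

/-- Differences. -/
theorem exists_D (hθ : Function.Surjective G.θ) (hker : ∀ a, G.θ a = 0 → ∃ b, a = p • b)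
    (hπ : Function.Surjective π) (hρ : ∀ r, G.θ (ρ r) ^ p = G.w (f (π r)))
    {T : Type*} [CommRing T] (t : B →+* T) {lam lam' : P G → B} (h : IsLam G π ρ f lam) (h' : IsLam G π ρ f lam') :
    ∃ D : B →+ T, TwDer p t (Set.range f) D ∧ ∀ x : P G, D x.1.2 = t (lam' x - lam x) := by
  refine descend_tw hθ hker hπ hρ t _ (fun x y => ?_) (fun x y => ?_) (fun x c hx => ?_) (fun x r hx => ?_)
  · rw [h.add, h'.add, ← map_add]
    congr 1
    abel
  · rw [h.mul, h'.mul, smul_eq_mul, smul_eq_mul, ← map_pow, ← map_pow, ← map_mul, ← map_mul, ← map_add]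
    congr 1
    ring
  · rw [h.pc x c hx, h'.pc x c hx, sub_self, map_zero]
  · rw [h.cst x r hx, h'.cst x r hx, sub_self, map_zero]

/-- Frobenius liftings on differentials. -/
theorem exists_E (hθ : Function.Surjective G.θ) (hker : ∀ a, G.θ a = 0 → ∃ b, a = p • b)
    (hπ : Function.Surjective π) (hρ : ∀ r, G.θ (ρ r) ^ p = G.w (f (π r)))
    {T L : Type*} [CommRing T] [AddCommGroup L] [Module T L] (t : B →+* T) {δ : T →+ L}
    (hpT : (p : T) = 0)
    (leib : ∀ a b, δ (a * b) = a • δ b + b • δ a)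
    (hF : ∀ c, δ (t (G.F c)) = 0) (hf : ∀ r, δ (t (f r)) = 0)
    {lam : P G → B} (h : IsLam G π ρ f lam) :
    ∃ E : B →+ L, TwDer p t (Set.range f) E ∧
      ∀ x : P G, E x.1.2 = t x.1.2 ^ (p - 1) • δ (t x.1.2) + δ (t (lam x)) := by
  have hPZ : K905.TotM.PZ p T := ⟨hpT⟩
  have hpow : ∀ a : T, δ (a ^ p) = 0 := fun a => TotPhi.δ_pow_p p leib a
  refine descend_tw hθ hker hπ hρ t _ (fun x y => ?_) (fun x y => ?_) (fun x c hx => ?_) (fun x r hx => ?_)
  · have h1 : (x + y).1.2 = x.1.2 + y.1.2 := rfl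
    rw [h.add, h1, map_sub, map_sub, map_add, map_add, Cross.map_c, Cross.δ_c hp.1 δ leib]
    simp only [map_add]
    abel
  · have h1 : (x * y).1.2 = x.1.2 * y.1.2 := rfl
    have hq : ∀ x : T, x ^ p = x ^ (p - 1) * x := fun x => by
      rw [← pow_succ, Nat.sub_add_cancel hp.1.one_le]
    rw [h.mul, h1, map_mul, leib, map_add, map_mul, map_mul, map_pow, map_pow, map_add, leib, leib, hpow, hpow,
      smul_zero, smul_zero, add_zero, add_zero, smul_add, smul_add, smul_add, smul_smul, smul_smul, smul_smul, smul_smul,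
      hq (t x.1.2), hq (t y.1.2), mul_pow]
    have e1 : t x.1.2 ^ (p - 1) * t y.1.2 ^ (p - 1) * t x.1.2 = t x.1.2 ^ (p - 1) * t x.1.2 * t y.1.2 ^ (p - 1) := by ring
    have e2 : t x.1.2 ^ (p - 1) * t y.1.2 ^ (p - 1) * t y.1.2 = t y.1.2 ^ (p - 1) * t y.1.2 * t x.1.2 ^ (p - 1) := by ring
    rw [e1, e2]
    abel
  · have h1 : x.1.2 = 0 := congrArg Prod.snd hx
    rw [h1, h.pc x c hx, hF, map_zero, map_zero, smul_zero, add_zero]
  · have h1 : x.1.2 = f (π r) := congrArg Prod.snd hx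
    rw [h1, h.cst x r hx, hf, smul_zero, map_zero, map_zero, add_zero]

end desc

section uniq

open K776.RAlt

/-- Uniqueness of twisted derivations with given values on étale coordinates. -/
theorem uniq_of_etale {p : ℕ} [hp : Fact p.Prime] {R B T : Type*} [CommRing R] [CommRing B] [CommRing T] [CharP T p]
    (π : B →+* T) (f : R →+* B) {J : Type*} (y : J → B) (het : (MvPolynomial.eval₂Hom f y).Etale) (N : Type*)
    [AddCommGroup N] [Module T N] : Uniq p π (Set.range f) y N := by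
  intro D₁ D₂ h₁ h₂ hy a
  let D : B →+ N := D₁ - D₂
  have hD : ∀ a, D a = D₁ a - D₂ a := fun _ => rfl
  have leib : ∀ a b, D (a * b) = π a ^ p • D b + π b ^ p • D a := fun a b => by
    rw [hD, hD, hD, h₁.leib, h₂.leib, smul_sub, smul_sub]
    abel
  have hf : ∀ r, D (f r) = 0 := fun r => by
    rw [hD, h₁.const _ ⟨r, rfl⟩, h₂.const _ ⟨r, rfl⟩, sub_zero]
  have hy' : ∀ j, D (y j) = 0 := fun j => by rw [hD, hy, sub_self]
  suffices h : ∀ a, D a = 0 by
    have := h a
    rwa [hD, sub_eq_zero] at this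
  let ψ : B →+* T := (frobenius T p).comp π
  let ev : MvPolynomial J R →+* B := MvPolynomial.eval₂Hom f y
  have hev : ∀ z, D (ev z) = 0 := by
    intro z
    induction z using MvPolynomial.induction_on with
    | C r =>
      have h1 : ev (MvPolynomial.C r) = f r := MvPolynomial.eval₂Hom_C _ _ _
      rw [h1, hf]
    | add z z' hz hz' => rw [map_add, map_add, hz, hz', add_zero]
    | mul_X z j hz =>
      have h1 : ev (MvPolynomial.X j) = y j := MvPolynomial.eval₂Hom_X' _ _ _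
      rw [map_mul, leib, hz, smul_zero, add_zero, h1, hy', smul_zero]
  let _ : Algebra (MvPolynomial J R) B := ev.toAlgebra
  have : Algebra.Etale (MvPolynomial J R) B := het
  let _ : Module (MvPolynomial J R) (Tw ψ N) := Module.compHom (Tw ψ N) ev
  have : IsScalarTower (MvPolynomial J R) B (Tw ψ N) := ⟨fun z b n => by
    change (ev z * b) • n = ev z • (b • n)
    rw [mul_smul]⟩
  let dd : Derivation (MvPolynomial J R) B (Tw ψ N) :=
    Derivation.mk' { D with
      map_smul' := fun z b => by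
        change D (ev z * b) = ψ (ev z) • D b
        rw [leib, hev, smul_zero, add_zero]
        rfl } (fun a b => leib a b)
  have hs : Subsingleton (Ω[B⁄MvPolynomial J R]) := inferInstance
  intro a
  have h2 : dd a = dd.liftKaehlerDifferential (KaehlerDifferential.D _ _ a) :=
    (dd.liftKaehlerDifferential_comp_D a).symm
  rw [Subsingleton.elim (KaehlerDifferential.D (MvPolynomial J R) B a) 0, map_zero] at h2
  exact h2

end uniq

section compat

variable {p : ℕ} [hp : Fact p.Prime] {At A1 B Bt B1 C : Type u} [CommRing At] [CommRing A1] [CommRing B]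
  [CommRing Bt] [CommRing B1] [CommRing C] {G : GDat p At A1 B} {H : GDat p Bt B1 C} (m : GMor G H)
  {Rt R : Type u} [CommRing Rt] [CommRing R] {π : Rt →+* R} {ρ : Rt →+* At} {f : R →+* B}
  {ρ' : Rt →+* Bt} {f' : R →+* C}

/-- Compatibility with restriction. -/
theorem compat (hθ : Function.Surjective G.θ) (hker : ∀ a, G.θ a = 0 → ∃ b, a = p • b)
    (hπ : Function.Surjective π) (hρ : ∀ r, G.θ (ρ r) ^ p = G.w (f (π r)))
    (hm : ∀ r, m.ft (ρ r) = ρ' r) (hf : ∀ r, m.f (f r) = f' r) [CharP C p]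
    {lam : P G → B} {lam' : P H → C} (h : IsLam G π ρ f lam) (h' : IsLam H π ρ' f' lam')
    {J : Type*} (xt : J → P G) (h0 : ∀ j, lam (xt j) = 0) (h0' : ∀ j, lam' ((mor m).fP (xt j)) = 0)
    (het : (MvPolynomial.eval₂Hom f (fun j => (xt j).1.2)).Etale) (x : P G) :
    lam' ((mor m).fP x) = m.f (lam x) := by
  have e1 : ∀ z, ((mor m).fP z).1.2 = m.f z.1.2 := fun _ => rfl
  have key : ∃ D : B →+ C, TwDer p m.f (Set.range f) D ∧
      ∀ x : P G, D x.1.2 = lam' ((mor m).fP x) - m.f (lam x) := by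
    refine descend_tw hθ hker hπ hρ m.f (fun x => lam' ((mor m).fP x) - m.f (lam x))
      (fun x y => ?_) (fun x y => ?_) (fun x c hx => ?_) (fun x r hx => ?_)
    · rw [map_add, h.add, h'.add, map_sub, map_add, Cross.map_c, e1, e1]
      abel
    · rw [map_mul, h.mul, h'.mul, map_add, map_mul, map_mul, map_pow, map_pow, e1, e1, smul_eq_mul, smul_eq_mul]
      ring
    · have e2 : ((mor m).fP x).1 = (p • m.ft c, 0) := by
        rw [mor_fP, hx, map_nsmul, map_zero]
      rw [h.pc x c hx, h'.pc _ _ e2, m.θ, m.F, sub_self]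
    · have e2 : ((mor m).fP x).1 = (ρ' r ^ p, f' (π r)) := by
        rw [mor_fP, hx, map_pow, hm, hf]
      rw [h.cst x r hx, h'.cst _ _ e2, map_zero, sub_self]
  obtain ⟨D, hD, hDx⟩ := key
  have h3 := uniq_of_etale (T := C) (p := p) m.f f (fun j => (xt j).1.2) het C D 0 hD
    ⟨fun a b => by simp, fun c _ => rfl⟩ (fun j => by
      rw [hDx, h0, h0', map_zero, sub_zero]
      rfl) x.1.2
  rw [hDx] at h3
  exact sub_eq_zero.1 h3

end compat

end K776.RLam
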