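import Groth.Agent.DelIll.K776.RNum
import Groth.Agent.DelIll.K224.RelLocal
import Groth.Agent.DelIll.K904.DR

/-!
# The local input of the relative argument, ring level

`Res B T M L` : a ring homomorphism `ρ : B → T` and a semilinear map `g : M → L`.  Under a relative chart on `B` the
local Cartier isomorphism holds for the lattices `ex (Λ M)`.
-/

set_option autoImplicit false

open ExteriorAlgebra Module K904 K905.TotPhi K224.RelCartier
open K912.Alt

namespace K776.RLoc

/-- Semilinear maps given by a basis. -/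
noncomputable def semi {T' T L' N J : Type*} [Fintype J] [CommRing T'] [CommRing T] [AddCommGroup L'] [Module T' L']
    [AddCommGroup N] [Module T N] (φ : T' →+* T) (e' : Basis J T' L') (c : J → N) : L' →+ N where
  toFun w := ∑ j, φ (e'.repr w j) • c j
  map_zero' := by simp
  map_add' v w := by
    rw [← Finset.sum_add_distrib]
    refine Finset.sum_congr rfl fun j _ => ?_
    rw [map_add, Finsupp.add_apply, map_add, add_smul]

section semi

variable {T' T L' N J : Type*} [Fintype J] [CommRing T'] [CommRing T] [AddCommGroup L'] [Module T' L']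
    [AddCommGroup N] [Module T N] (φ : T' →+* T) (e' : Basis J T' L') (c : J → N)

theorem semi_apply (w : L') : semi φ e' c w = ∑ j, φ (e'.repr w j) • c j := rfl

theorem semi_smul (b : T') (w : L') : semi φ e' c (b • w) = φ b • semi φ e' c w := by
  rw [semi_apply, semi_apply, Finset.smul_sum]
  refine Finset.sum_congr rfl fun j _ => ?_
  rw [map_smul, Finsupp.smul_apply, smul_eq_mul, map_mul, mul_smul]

theorem semi_basis (j : J) : semi φ e' c (e' j) = c j := by
  classical
  rw [semi_apply, Finset.sum_eq_single j]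
  · rw [Basis.repr_self, Finsupp.single_eq_same, map_one, one_smul]
  · intro i _ hi
    rw [Basis.repr_self, Finsupp.single_eq_of_ne hi, map_zero, zero_smul]
  · intro h
    exact absurd (Finset.mem_univ _) h

/-- Semilinear maps agreeing on a basis are equal. -/
theorem semi_ext {f g : L' →+ N} (hf : ∀ (b : T') w, f (b • w) = φ b • f w) (hg : ∀ (b : T') w, g (b • w) = φ b • g w)
    (h : ∀ j, f (e' j) = g (e' j)) (w : L') : f w = g w := by
  rw [← e'.sum_repr w, map_sum, map_sum]
  refine Finset.sum_congr rfl fun j _ => ?_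
  rw [hf, hg, h]

end semi

/-- A ring homomorphism and a semilinear map. -/
structure Res (B T M L : Type*) [CommRing B] [CommRing T] [AddCommGroup M] [Module B M] [AddCommGroup L]
    [Module T L] where
  /-- on rings -/
  ρ : B →+* T
  /-- on modules -/
  g : M →+ L
  g_smul : ∀ (b : B) (m : M), g (b • m) = ρ b • g m

variable {B T M L : Type*} [CommRing B] [CommRing T] [AddCommGroup M] [Module B M] [AddCommGroup L]
    [Module T L] (r : Res B T M L)

/-- The extension to the exterior algebras. -/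
noncomputable def ex : ExteriorAlgebra B M →+* ExteriorAlgebra T L := Semi.extR r.ρ r.g r.g_smul

theorem ex_smul (b : B) (y : ExteriorAlgebra B M) : ex r (b • y) = r.ρ b • ex r y := Semi.extR_smul _ _ _ _ _

theorem ex_ι (y : M) : ex r (ι B y) = ι T (r.g y) := Semi.extR_ι _ _ _ _

theorem ex_algebraMap (b : B) : ex r (algebraMap B _ b) = algebraMap T _ (r.ρ b) := Semi.extR_algebraMap _ _ _ _

theorem ex_ιMulti {n : ℕ} (v : Fin n → M) : ex r (ιMulti B n v) = ιMulti T n (fun i => r.g (v i)) :=
  Semi.extR_ιMulti _ _ _ _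

theorem ex_mem (n : ℕ) (y : ExteriorAlgebra B M) (hy : y ∈ ⋀[B]^n M) : ex r y ∈ ⋀[T]^n L := Semi.extR_mem _ _ _ _ _ hy

/-- The image of the basis of the exterior algebra. -/
theorem ex_injective {J : Type*} [Fintype J] [LinearOrder J] (e : Basis J B M) (e₁ : Basis J T L)
    (he : ∀ j, e₁ j = r.g (e j)) (hρ : Function.Injective r.ρ) : Function.Injective (ex r) := by
  have hb : ∀ s : Finset J, ex r (e.ExteriorAlgebra s) = e₁.ExteriorAlgebra s := by
    intro s
    rw [ExteriorAlgebra.basis_apply, ExteriorAlgebra.basis_apply]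
    refine (Semi.extR_ιMulti _ _ _ _).trans ?_
    change _ = ιMulti T _ _
    congr 1
    funext i
    exact (he _).symm
  rw [injective_iff_map_eq_zero]
  intro y hy
  rw [← e.ExteriorAlgebra.sum_repr y, map_sum] at hy
  simp only [ex_smul, hb] at hy
  apply e.ExteriorAlgebra.repr.injective
  ext s
  have h4 := congrArg (fun w => e₁.ExteriorAlgebra.repr w s) hy
  simp only [map_sum, map_smul, Basis.repr_self, Finsupp.finsetSum_apply, Finsupp.smul_apply, smul_eq_mul,
    map_zero, Finsupp.zero_apply] at h4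
  rw [Finset.sum_eq_single s] at h4
  · rw [Finsupp.single_eq_same, mul_one] at h4
    rw [map_zero, Finsupp.zero_apply]
    exact hρ (h4.trans (map_zero r.ρ).symm)
  · intro t _ hts
    rw [Finsupp.single_eq_of_ne hts.symm, mul_zero]
  · intro h
    exact absurd (Finset.mem_univ _) h

/-- de Rham differentials are compatible with `ex`. -/
theorem ex_d {δ : B →+ M} {d : ExteriorAlgebra B M →+ ExteriorAlgebra B M} (hd : IsDR δ d)
    {δ₁ : T →+ L} {d₁ : ExteriorAlgebra T L →+ ExteriorAlgebra T L} (hd₁ : IsDR δ₁ d₁)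
    (hg : ∀ b, r.g (δ b) = δ₁ (r.ρ b)) (hspan : ∀ m : M, m ∈ Submodule.span B (Set.range δ))
    (y : ExteriorAlgebra B M) : ex r (d y) = d₁ (ex r y) := by
  induction y using ExteriorAlgebra.induction with
  | algebraMap b => rw [hd.alg, ex_ι, ex_algebraMap, hd₁.alg, hg]
  | ι m =>
    induction hspan m using Submodule.closure_induction with
    | zero => rw [map_zero, map_zero, map_zero, map_zero]
    | add x y _ _ hx hy => rw [map_add, map_add, map_add, map_add, map_add, hx, hy]
    | smul_mem b y hy =>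
      obtain ⟨c, rfl⟩ := hy
      rw [map_smul, hd.smul, hd.dd, smul_zero, add_zero, map_mul, ex_ι, ex_ι, ex_smul, ex_ι, hd₁.smul, hg, hg,
        hd₁.dd, smul_zero, add_zero]
  | mul a b ha hb =>
    rw [hd.mul, map_add, map_mul, map_mul, ha, hb, map_mul, hd₁.mul]
    congr 2
    exact DR.extR_sg r.ρ r.g r.g_smul a
  | add a b ha hb => rw [map_add, map_add, map_add, map_add, ha, hb]

/-- de Rham differentials are unique. -/
theorem d_unique {δ : B →+ M} {d d' : ExteriorAlgebra B M →+ ExteriorAlgebra B M} (hd : IsDR δ d)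
    (hd' : IsDR δ d') (hspan : ∀ m : M, m ∈ Submodule.span B (Set.range δ)) (y : ExteriorAlgebra B M) : d y = d' y := by
  induction y using ExteriorAlgebra.induction with
  | algebraMap b => rw [hd.alg, hd'.alg]
  | ι m =>
    induction hspan m using Submodule.closure_induction with
    | zero => rw [map_zero, map_zero, map_zero]
    | add x y _ _ hx hy => rw [map_add, map_add, map_add, hx, hy]
    | smul_mem b y hy =>
      obtain ⟨c, rfl⟩ := hy
      rw [map_smul, hd.smul, hd.dd, hd'.smul, hd'.dd]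
  | mul a b ha hb => rw [hd.mul, hd'.mul, ha, hb]
  | add a b ha hb => rw [map_add, map_add, ha, hb]

theorem d_degree {δ : B →+ M} {d : ExteriorAlgebra B M →+ ExteriorAlgebra B M} (hd : IsDR δ d)
    (hspan : ∀ m : M, m ∈ Submodule.span B (Set.range δ)) (n : ℕ) (y : ExteriorAlgebra B M) (hy : y ∈ ⋀[B]^n M) :
    d y ∈ ⋀[B]^(n + 1) M := by
  induction n generalizing y with
  | zero =>
    rw [ExteriorAlgebra.exteriorPower, pow_zero, Submodule.mem_one] at hy
    obtain ⟨b, rfl⟩ := hy
    rw [hd.alg, ExteriorAlgebra.exteriorPower, pow_succ, pow_zero, one_mul]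
    exact ⟨_, rfl⟩
  | succ n ih =>
    rw [ExteriorAlgebra.exteriorPower, pow_succ'] at hy
    induction hy using Submodule.mul_induction_on' with
    | mem_mul_mem v hv ω hω =>
      obtain ⟨v, rfl⟩ := hv
      have h1 := ih ω hω
      induction hspan v using Submodule.closure_induction with
      | zero => rw [map_zero, zero_mul, map_zero]; exact Submodule.zero_mem _
      | add x y _ _ hx hy => rw [map_add, add_mul, map_add]; exact Submodule.add_mem _ hx hy
      | smul_mem b y hy =>
        obtain ⟨c, rfl⟩ := hy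
        rw [map_smul, hd.mul, hd.smul, hd.dd, smul_zero, add_zero, ExteriorAlgebra.exteriorPower, pow_succ', pow_succ']
        refine Submodule.add_mem _ ?_ ?_
        · rw [mul_assoc]
          exact Submodule.mul_mem_mul ⟨_, rfl⟩ (Submodule.mul_mem_mul ⟨_, rfl⟩ hω)
        · rw [map_smul, Iso.sg_ι, smul_mul_assoc, neg_mul]
          refine Submodule.smul_mem _ _ (Submodule.neg_mem _ (Submodule.mul_mem_mul ⟨_, rfl⟩ ?_))
          rw [← pow_succ']
          exact h1
    | add a _ b _ ha hb => rw [map_add]; exact Submodule.add_mem _ ha hb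

section lattice

variable {k : Type*} [Field k] [Algebra k T] [Module k L] [IsScalarTower k T L]
  {A : Subalgebra k T} {N : Submodule k L} (hA : ∀ t, t ∈ A ↔ ∃ b, r.ρ b = t) (hN : ∀ l, l ∈ N ↔ ∃ m, r.g m = l)

include hA hN in
theorem mem_lat_iff (a : ℕ) (x : ExteriorAlgebra T L) :
    x ∈ lat (Subalgebra.toSubmodule A) N a ↔ ∃ y ∈ ⋀[B]^a M, x = ex r y := by
  constructor
  · intro hx
    induction hx using Submodule.span_induction with
    | mem x hx =>
      obtain ⟨q, hq, w, hw, rfl⟩ := hx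
      obtain ⟨b, rfl⟩ := (hA q).1 hq
      choose v hv using fun i => (hN (w i)).1 (hw i)
      refine ⟨b • ιMulti B a v, Submodule.smul_mem _ _ (ιMulti_range B a ⟨_, rfl⟩), ?_⟩
      rw [ex_smul, ex_ιMulti]
      simp only [hv]
    | zero => exact ⟨0, Submodule.zero_mem _, by rw [map_zero]⟩
    | add x x' _ _ hx hx' =>
      obtain ⟨y, hy, rfl⟩ := hx
      obtain ⟨y', hy', rfl⟩ := hx'
      exact ⟨y + y', Submodule.add_mem _ hy hy', by rw [map_add]⟩
    | smul t x _ hx =>
      obtain ⟨y, hy, rfl⟩ := hx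
      obtain ⟨b, hb⟩ := (hA _).1 (A.algebraMap_mem t)
      exact ⟨b • y, Submodule.smul_mem _ _ hy, by rw [ex_smul, hb, algebraMap_smul]⟩
  · rintro ⟨y, hy, rfl⟩
    rw [← ιMulti_span_fixedDegree] at hy
    have key : ∀ b : B, ex r (b • y) ∈ lat (Subalgebra.toSubmodule A) N a := by
      induction hy using Submodule.span_induction with
      | mem y hy =>
        obtain ⟨v, rfl⟩ := hy
        intro b
        rw [ex_smul, ex_ιMulti]
        exact smul_ιMulti_mem ((hA _).2 ⟨b, rfl⟩) fun i => (hN _).2 ⟨_, rfl⟩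
      | zero =>
        intro b
        rw [smul_zero, map_zero]
        exact Submodule.zero_mem _
      | add x y _ _ hx hy =>
        intro b
        rw [smul_add, map_add]
        exact Submodule.add_mem _ (hx b) (hy b)
      | smul c x _ hx =>
        intro b
        rw [smul_smul]
        exact hx _
    have h1 := key 1
    rwa [one_smul] at h1

/-- The exterior powers in integral degrees. -/
def degZ (B M : Type*) [CommRing B] [AddCommGroup M] [Module B M] : ℤ → Submodule B (ExteriorAlgebra B M)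
  | Int.ofNat a => ⋀[B]^a M
  | Int.negSucc _ => ⊥

include hA hN in
theorem mem_latZ_iff (a : ℤ) (x : ExteriorAlgebra T L) :
    x ∈ latZ (Subalgebra.toSubmodule A) N a ↔ ∃ y ∈ degZ B M a, x = ex r y := by
  cases a with
  | ofNat a => exact mem_lat_iff r hA hN a x
  | negSucc a =>
    constructor
    · intro hx
      refine ⟨0, Submodule.zero_mem _, ?_⟩
      rw [(Submodule.mem_bot k).1 hx, map_zero]
    · rintro ⟨y, hy, rfl⟩
      rw [(Submodule.mem_bot B).1 hy, map_zero]
      exact Submodule.zero_mem _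

include hA hN in
/-- The differential preserves the lattices. -/
theorem d_mem {δ : B →+ M} {d : ExteriorAlgebra B M →+ ExteriorAlgebra B M} (hd : IsDR δ d)
    {δ₁ : T →+ L} {d₁ : ExteriorAlgebra T L →+ ExteriorAlgebra T L} (hd₁ : IsDR δ₁ d₁)
    (hg : ∀ b, r.g (δ b) = δ₁ (r.ρ b)) (hspan : ∀ m : M, m ∈ Submodule.span B (Set.range δ))
    (a : ℤ) (x : ExteriorAlgebra T L) (hx : x ∈ latZ (Subalgebra.toSubmodule A) N a) :
    d₁ x ∈ latZ (Subalgebra.toSubmodule A) N (a + 1) := by
  obtain ⟨y, hy, rfl⟩ := (mem_latZ_iff r hA hN a x).1 hx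
  rw [← ex_d r hd hd₁ hg hspan]
  refine (mem_latZ_iff r hA hN (a + 1) _).2 ⟨_, ?_, rfl⟩
  cases a with
  | ofNat a => exact d_degree hd hspan a y hy
  | negSucc a =>
    rw [(Submodule.mem_bot B).1 hy, map_zero]
    exact Submodule.zero_mem _

end lattice

section cartier

variable {B' T' M' L' : Type*} [CommRing B'] [CommRing T'] [AddCommGroup M'] [Module B' M'] [AddCommGroup L']
    [Module T' L'] (r' : Res B' T' M' L') {J : Type*} [Fintype J] [LinearOrder J]
    {p : ℕ} [Fact p.Prime] [CharP B' p] {ψ : B' →+* B} {x : J → B} {δ : B →+ M} {e : Basis J B M}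
    (hch : RChart p ψ x δ e) (e' : Basis J B' M')
    {φ : T' →+* T} (hφ : ∀ b, φ (r'.ρ b) = r.ρ (ψ b))
    {F : ExteriorAlgebra T' L' →+* ExteriorAlgebra T L} {f : L' →+ L}
    (hf : ∀ (b : T') (w : L'), f (b • w) = φ b • f w)
    (hF : ∀ b, F (algebraMap T' _ b) = algebraMap T _ (φ b)) (hFι : ∀ w, F (ι T' w) = ι T (f w))
    (hfe : ∀ j, f (r'.g (e' j)) = r.g (x j ^ (p - 1) • e j))

omit [CharP B' p] in
include hφ hf hF hFι hfe in
theorem F_ex (z : ExteriorAlgebra B' (J → B')) :
    F (ex r' (ExteriorAlgebra.map e'.equivFun.symm.toLinearMap z)) = ex r (c0 p ψ x e z) := by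
  have : (F.comp (ex r')).comp (ExteriorAlgebra.map e'.equivFun.symm.toLinearMap).toRingHom =
      (ex r).comp (c0 p ψ x e) := by
    apply Semi.ringHom_ext
    · intro b
      have h1 : ((F.comp (ex r')).comp (ExteriorAlgebra.map e'.equivFun.symm.toLinearMap).toRingHom)
          (algebraMap B' _ b) = F (ex r' (algebraMap B' _ b)) :=
        congrArg (fun z => F (ex r' z)) (AlgHom.commutes _ b)
      rw [h1, RingHom.comp_apply, c0_algebraMap, ex_algebraMap, ex_algebraMap, hF, hφ]
    · intro v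
      have h1 : ((F.comp (ex r')).comp (ExteriorAlgebra.map e'.equivFun.symm.toLinearMap).toRingHom) (ι B' v) =
          F (ex r' (ι B' (e'.equivFun.symm v))) :=
        congrArg (fun z => F (ex r' z)) (ExteriorAlgebra.map_apply_ι _ v)
      rw [h1, RingHom.comp_apply, c0_ι, ex_ι, ex_ι, hFι]
      congr 1
      rw [Basis.equivFun_symm_apply, map_sum, map_sum]
      change _ = r.g (∑ j, ψ (v j) • x j ^ (p - 1) • e j)
      rw [map_sum]
      refine Finset.sum_congr rfl fun j _ => ?_
      rw [r'.g_smul, hf, hφ, hfe, ← r.g_smul]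
  exact congr($this z)

variable {k : Type*} [Field k] [Algebra k T] [Module k L] [IsScalarTower k T L]
  {A : Subalgebra k T} {N : Submodule k L} (hA : ∀ t, t ∈ A ↔ ∃ b, r.ρ b = t) (hN : ∀ l, l ∈ N ↔ ∃ m, r.g m = l)
  [Algebra k T'] [Module k L'] [IsScalarTower k T' L']
  {A' : Subalgebra k T'} {N' : Submodule k L'} (hA' : ∀ t, t ∈ A' ↔ ∃ b, r'.ρ b = t)
  (hN' : ∀ l, l ∈ N' ↔ ∃ m, r'.g m = l)
  {δ₁ : T →+ L} {d₁ : ExteriorAlgebra T L →+ ExteriorAlgebra T L} (hd₁ : IsDR δ₁ d₁)
  (hg : ∀ b, r.g (δ b) = δ₁ (r.ρ b)) (e₁ : Basis J T L) (he₁ : ∀ j, e₁ j = r.g (e j))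
  (hρ : Function.Injective r.ρ)

omit [CharP B' p] in
include hch in
theorem span_of_chart (m : M) : m ∈ Submodule.span B (Set.range δ) := by
  refine Submodule.span_mono ?_ (e.mem_span m)
  rintro _ ⟨j, rfl⟩
  exact ⟨_, hch.ex j⟩

include hch in
theorem isDR_of_chart : IsDR δ (LocalCartier.d δ e) := K224.RelCartier.isDR hch

include hch hφ hf hF hFι hfe hA hN hA' hN' hd₁ hg he₁ hρ in
/-- Local Cartier, surjectivity. -/
theorem surj (a : ℕ) (y : ExteriorAlgebra T L) (hyL : y ∈ lat (Subalgebra.toSubmodule A) N a) (hdy : d₁ y = 0) :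
    ∃ g ∈ lat (Subalgebra.toSubmodule A') N' a, ∃ z ∈ latZ (Subalgebra.toSubmodule A) N ((a : ℤ) - 1),
      y = F g + d₁ z := by
  obtain ⟨H, q, h1, h2, h3, h4, h5, h6, h7, h8, h9⟩ := K224.RelCartier.main hch
  have hdr := isDR_of_chart hch
  have hsp := span_of_chart hch
  obtain ⟨y, hy, rfl⟩ := (mem_lat_iff r hA hN a y).1 hyL
  have e1 : LocalCartier.d δ e y = 0 := by
    apply ex_injective r e e₁ he₁ hρ
    rw [ex_d r hdr hd₁ hg hsp, hdy, map_zero]
  have e2 : y = c0 p ψ x e (q y) + LocalCartier.d δ e (H y) := by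
    have := h1 y
    rw [e1, map_zero, add_zero] at this
    rw [this]; abel
  refine ⟨ex r' (ExteriorAlgebra.map e'.equivFun.symm.toLinearMap (q y)), (mem_lat_iff r' hA' hN' a _).2
    ⟨_, K224.RelLocal.map_mem_ext _ (h9 a y hy), rfl⟩, ex r (H y), (mem_latZ_iff r hA hN _ _).2 ⟨H y, ?_, rfl⟩, ?_⟩
  · rcases a with _ | a
    · rw [h8 y hy]
      exact Submodule.zero_mem _
    · have e3 : ((a + 1 : ℕ) : ℤ) - 1 = Int.ofNat a := by
        change _ = (a : ℤ)
        push_cast; ring
      rw [e3]
      exact h7 a y hy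
  · rw [F_ex r r' e' hφ hf hF hFι hfe, ← ex_d r hdr hd₁ hg hsp, ← map_add, ← e2]

include hch hφ hf hF hFι hfe hA hN hA' hN' hd₁ hg he₁ hρ in
/-- Local Cartier, injectivity. -/
theorem inj (a : ℕ) (γ : ExteriorAlgebra T' L') (hγ : γ ∈ lat (Subalgebra.toSubmodule A') N' a)
    (z : ExteriorAlgebra T L) (hz : z ∈ latZ (Subalgebra.toSubmodule A) N ((a : ℤ) - 1)) (h : F γ = d₁ z) : γ = 0 := by
  obtain ⟨H, q, h1, h2, h3, h4, h5, h6, h7, h8, h9⟩ := K224.RelCartier.main hch
  have hdr := isDR_of_chart hch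
  have hsp := span_of_chart hch
  obtain ⟨y, hy, rfl⟩ := (mem_lat_iff r' hA' hN' a γ).1 hγ
  obtain ⟨z, hz, rfl⟩ := (mem_latZ_iff r hA hN _ z).1 hz
  have e0 : y = ExteriorAlgebra.map e'.equivFun.symm.toLinearMap
      (ExteriorAlgebra.map e'.equivFun.toLinearMap y) := by
    have h10 := ExteriorAlgebra.map_comp_map e'.equivFun.toLinearMap e'.equivFun.symm.toLinearMap
    have h11 : e'.equivFun.symm.toLinearMap ∘ₗ e'.equivFun.toLinearMap = LinearMap.id := by
      ext m
      simp
    rw [h11, ExteriorAlgebra.map_id] at h10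
    exact (congr($h10 y)).symm
  rw [e0, F_ex r r' e' hφ hf hF hFι hfe, ← ex_d r hdr hd₁ hg hsp] at h
  have e2 := ex_injective r e e₁ he₁ hρ h
  have e3 : ExteriorAlgebra.map e'.equivFun.toLinearMap y = 0 := by
    rw [← h2 (ExteriorAlgebra.map e'.equivFun.toLinearMap y), e2, h3]
  rw [e0, e3, map_zero, map_zero]

end cartier

end K776.RLoc
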