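import Groth.Agent.DelIll.K776.RI2
import Groth.Agent.Lift.K696.OmFree
import Groth.Agent.Sga67.LocBasisOps
import Groth.Agent.CanPar.K795.FibreRank
import Groth.Agent.PerfB.FiberBC

/-!
# The theorem over an affine base, from its pieces
-/

set_option autoImplicit false
set_option linter.unusedSectionVars false
universe u

open CategoryTheory CategoryTheory.Limits AlgebraicGeometry Opposite TopologicalSpace
open K776.Intf

namespace K776.RMain

section len

variable {A : Type u} [CommRing A] {Y : Scheme.{u}} (q : Y ⟶ Spec (CommRingCat.of A)) (M : Y.Modules) (j : ℕ)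

theorem length_eq {P : Type u} [AddCommGroup P] [Module A P]
    (h : letI := modHH q M j
      Nonempty (P ≃ₗ[A] Coh.HH Y M j)) : Module.length A P = len q M j := by
  obtain ⟨e⟩ := h
  let _ := modHH q M j
  exact e.length_eq

/-- Vector spaces are injective. -/
theorem injective_of_field (A : Type u) [Field A] : Module.Injective A A := by
  refine ⟨fun X Y _ _ _ _ f hf g => ?_⟩
  obtain ⟨r, hr⟩ := f.exists_leftInverse_of_injective (LinearMap.ker_eq_bot.2 hf)
  exact ⟨g ∘ₗ r, fun x => congrArg g (congr($hr x))⟩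

end len

/-- The theorem over an affine base. -/
theorem affMain (GC : GCStmt.{u}) (DU : DualStmt.{u}) (CR : CRStmt.{u}) (I2 : I2Stmt.{u}) : AffMain.{u} := by
  intro p hp R _ _ _ s hd a j
  let _ := s.ring
  have hbc : MorphismProperty.IsStableUnderBaseChange (@SmoothOfRelativeDimension s.d) :=
    smoothOfRelativeDimension_isStableUnderBaseChange s.d
  have := s.proper
  have := s.smooth
  have hSm : Smooth s.f := SmoothOfRelativeDimension.smooth s.d s.f
  have : IsLocallyNoetherian s.X := LocallyOfFiniteType.isLocallyNoetherian s.f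
  have hΩ : Coh.IsCoh (Omega.sheaf s.f) := K348.HomFam.isCoh_omega s.f
  have hcoh : ∀ a, Coh.IsCoh (s.Om a) := fun a => Groth.Agent.K477.ExtCoh.isCoh_of_isExtPow hΩ (s.hOm a)
  have hflat : ∀ a, FlatMod.IsFlatOver s.f (s.Om a) := fun a => by
    have h1 : FlatMod.IsFinLocFree (Omega.sheaf s.f) := K696.OmFree.isFinLocFree_omega s.f
    have h2 : FlatMod.IsFinLocFree (s.Om a) :=
      Groth.Agent.Sga67.LocBasis.isFinLocFree_of_isExtPow h1 (s.hOm a)
    exact K795.FibreRank.isFlatOver_of_isFinLocFree s.f h2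
  choose Cx hC using fun a => GC R s.X s.f (s.Om a) (hcoh a) (hflat a)
  have hext : ∀ {B : Type u} [CommRing B] {Y : Scheme.{u}} (g : Y ⟶ s.X) (q : Y ⟶ Spec (CommRingCat.of B))
      [IsProper q] (φ : R →+* B) (_ : IsPullback g q s.f (Spec.map (CommRingCat.ofHom φ))) (a : ℕ),
      ExtPow.IsExtPow a (Omega.sheaf q) ((Scheme.Modules.pullback g).obj (s.Om a)) := fun g q _ φ hg a =>
    Groth.Agent.S15539.result s.X _ _ _ s.f q g _ hg a (s.Om a) (s.hOm a)
  have key := CR R p s.d hd Cx ?_ ?_ ?_ a j
  · obtain ⟨e⟩ := hC a R (RingHom.id R) s.X (𝟙 s.X) s.f (by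
      have : Spec.map (CommRingCat.ofHom (RingHom.id R)) = 𝟙 _ := Spec.map_id _
      rw [this]
      exact IsPullback.of_horiz_isIso ⟨by simp⟩) j
    let _ := modHH s.f ((Scheme.Modules.pullback (𝟙 s.X)).obj (s.Om a)) j
    let _ := modHH s.f (s.Om a) j
    have e2 : Coh.HH s.X ((Scheme.Modules.pullback (𝟙 s.X)).obj (s.Om a)) j ≃ₗ[R] Coh.HH s.X (s.Om a) j :=
      @Groth.Agent.PerfB.FiberBC.isoOver R _ s.X ⟨s.f⟩ _ _ ((Scheme.Modules.pullbackId s.X).app (s.Om a)) j
    exact Module.Projective.of_equiv (e.trans e2)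
  · intro A _ _ _ _ φ hφ n hn
    have hg := IsPullback.of_hasPullback s.f (Spec.map (CommRingCat.ofHom φ))
    have hg' := IsPullback.of_hasPullback s.f (Spec.map (CommRingCat.ofHom ((frobenius A p).comp φ)))
    have h := I2 p R s A φ hφ _ _ _ hg _ _ _ hg' n hn
    rw [Finset.sum_congr rfl fun a _ => length_eq _ _ _ (hC a A _ _ _ _ hg' (n - a)),
      Finset.sum_congr rfl fun a _ => length_eq _ _ _ (hC a A _ _ _ _ hg (n - a))]
    exact h
  · intro A _ _ _ φ hφ hinj a a' j j' ha hj
    have hg := IsPullback.of_hasPullback s.f (Spec.map (CommRingCat.ofHom φ))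
    have hpq : IsProper (pullback.snd s.f (Spec.map (CommRingCat.ofHom φ))) := inferInstance
    have hsm : SmoothOfRelativeDimension s.d (pullback.snd s.f (Spec.map (CommRingCat.ofHom φ))) :=
      MorphismProperty.of_isPullback (P := @SmoothOfRelativeDimension s.d) hg inferInstance
    rw [length_eq _ _ _ (hC a A _ _ _ _ hg j), length_eq _ _ _ (hC a' A _ _ _ _ hg j')]
    exact (DU A hinj s.d _ _ _ (fun a => hext _ _ φ hg a)).1 a a' j j' ha hj
  · intro A _ φ hφ a j haj
    have hg := IsPullback.of_hasPullback s.f (Spec.map (CommRingCat.ofHom φ))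
    have hpq : IsProper (pullback.snd s.f (Spec.map (CommRingCat.ofHom φ))) := inferInstance
    have hsm : SmoothOfRelativeDimension s.d (pullback.snd s.f (Spec.map (CommRingCat.ofHom φ))) :=
      MorphismProperty.of_isPullback (P := @SmoothOfRelativeDimension s.d) hg inferInstance
    have hinj : Module.Injective A A := injective_of_field A
    have h := (DU A hinj s.d _ _ _ (fun a => hext _ _ φ hg a)).2 a j haj
    obtain ⟨e⟩ := hC a A _ _ _ _ hg j
    exact e.toEquiv.subsingleton

end K776.RMain
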