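import Groth.Agent.DelIll.K776.RTop
import Groth.Agent.DelIll.K776.RGeo

/-!
# The two sides of the geometric data
-/

set_option autoImplicit false
universe u

open CategoryTheory CategoryTheory.Limits AlgebraicGeometry Opposite TopologicalSpace
open Groth.Agent.Sga67.Sec Groth.Agent.Sga67.LocBasis Groth.Agent.Fga.MumCech
open K905.GeoX K905.GeoUp K922.Coord K224.RelGD K224.RelBase K224.RelCartier K224.RelGeom
open K776.RCh K776.RTw K776.RLam K776.RDat K776.RCtx K776.RTop K776.RGeo
open K912.LatCmp K912.Frame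

namespace K776.RSide

section Us

variable {X : Scheme.{u}} {ι : Type u} [Finite ι] (U : ι → X.Opens)

theorem aff_Us [X.IsSeparated] (hU : ∀ i, IsAffineOpen (U i)) (s : Set ι) (hs : s.Nonempty) :
    IsAffineOpen (Us U s) := by
  classical
  obtain ⟨t, rfl⟩ := (Set.toFinite s).exists_finset_coe
  rw [Finset.coe_nonempty] at hs
  induction hs using Finset.Nonempty.cons_induction with
  | singleton a =>
    have e : Us U (({a} : Finset ι) : Set ι) = U a := by
      rw [Us]; simp
    rw [e]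
    exact hU a
  | cons a t ha ht ih =>
    have e : Us U ((Finset.cons a t ha : Finset ι) : Set ι) = U a ⊓ Us U (t : Set ι) := by
      rw [Us, Us]; simp [iInf_or, iInf_inf_eq]
    rw [e]
    exact (hU a).inf ih

theorem pre_Us {Y : Scheme.{u}} (g : Y ⟶ X) (s : Set ι) : g ⁻¹ᵁ (Us U s) = Us (fun i => g ⁻¹ᵁ (U i)) s := by
  classical
  obtain ⟨t, rfl⟩ := (Set.toFinite s).exists_finset_coe
  induction t using Finset.induction_on with
  | empty =>
    have e : ∀ {Z : Scheme.{u}} (V : ι → Z.Opens), Us V ((∅ : Finset ι) : Set ι) = ⊤ := by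
      intro Z V
      rw [Us]; simp
    rw [e, e]
    rfl
  | insert a t ha ih =>
    have e : ∀ {Z : Scheme.{u}} (V : ι → Z.Opens), Us V ((insert a t : Finset ι) : Set ι) = V a ⊓ Us V (t : Set ι) := by
      intro Z V
      rw [Us, Us]; simp [iInf_or, iInf_inf_eq]
    rw [e, e, ← ih]
    rfl

omit [Finite ι] in
theorem Us_le {s : Set ι} {i : ι} (hi : i ∈ s) : Us U s ≤ U i := iInf_le_of_le i (iInf_le_of_le hi le_rfl)

theorem resO_inj_congr {Y : Scheme.{u}} {V W O : Y.Opens} (e : O = W) (h : V ≤ W) (h' : V ≤ O)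
    (hinj : Function.Injective (resO Y h)) : Function.Injective (resO Y h') := by
  subst e; exact hinj

end Us

section gl

variable {k : Type u} [Field k] {A : Type u} [CommRing A] (κ : k →+* A)

/-- Schemes over `A` are schemes over `k`. -/
@[reducible] noncomputable def overK {Y : Scheme.{u}} (q : Y ⟶ Spec (CommRingCat.of A)) :
    Y.Over (Spec (CommRingCat.of k)) := ⟨q ≫ Spec.map (CommRingCat.ofHom κ)⟩

theorem co_over {Y : Scheme.{u}} (q : Y ⟶ Spec (CommRingCat.of A)) (V : Y.Opens) (t : k) :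
    co (q ≫ Spec.map (CommRingCat.ofHom κ)) V t = co q V (κ t) := by
  have h1 := co_comp (h := 𝟙 Y) (q := q ≫ Spec.map (CommRingCat.ofHom κ)) (q' := q) (φ := κ)
    (Category.id_comp _) (le_rfl : V ≤ (𝟙 Y : Y ⟶ Y) ⁻¹ᵁ V) t
  rw [← h1]
  have h2 : (𝟙 Y : Y ⟶ Y).appLE V V le_rfl = 𝟙 _ := by
    have : (𝟙 Y : Y ⟶ Y).appLE V V le_rfl = Y.presheaf.map (homOfLE (le_refl V)).op := by
      simp only [Scheme.Hom.appLE, Scheme.Hom.id_app]
      exact Category.id_comp _
    rw [this]
    exact Y.presheaf.map_id _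
  exact (congr($(h2).hom (co (q ≫ Spec.map (CommRingCat.ofHom κ)) V t))).symm

theorem glV_over {Y : Scheme.{u}} (q : Y ⟶ Spec (CommRingCat.of A)) (V : Y.Opens) (t : k) :
    letI := overK κ q
    glV k V t = co q V (κ t) := by
  rw [← co_over]
  rfl

end gl

end K776.RSide
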