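import Groth.Agent.DelIll.K776.RCtx

/-!
# The Deligne-Illusie data over a common affine open of the charts
-/

set_option autoImplicit false
universe u

open CategoryTheory CategoryTheory.Limits AlgebraicGeometry Opposite TopologicalSpace
open Groth.Agent.Sga67.Sec Groth.Agent.Sga67.LocBasis
open K905.GeoX K905.GeoUp K922.Coord K224.RelGD K224.RelBase K224.RelCartier K224.RelGeom
open K776.RCh K776.RTw K776.RLam K776.RDat K776.RCtx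

namespace K776.RTop

variable {p : ℕ} [hp : Fact p.Prime] {Rt R : Type u} [CommRing Rt] [CommRing R] [CharP R p] {π : Rt →+* R}
  {X X' Xl : Scheme.{u}} [FrobSch.IsCharP X p] {f : X ⟶ Spec (CommRingCat.of R)} {w : X' ⟶ X}
  {f' : X' ⟶ Spec (CommRingCat.of R)} {F : X ⟶ X'} {j : X' ⟶ Xl} {gl : Xl ⟶ Spec (CommRingCat.of Rt)}
  (H : IsCtx p π f w f' F j gl)

/-- Differences and Frobenius liftings. -/
theorem exists_DE {V : X.Opens} (hV : IsAffineOpen V) {d : ℕ} {ι : Type*} (y : ι → Fin d → Γ(X, V))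
    (xt : ι → Fin d → P (H.G V)) (hxt : ∀ i l, (xt i l).1.2 = y i l) (lam : ι → P (H.G V) → Γ(X, V))
    (hlam : ∀ i, H.IsLamV V (lam i)) (h0 : ∀ i l, lam i (xt i l) = 0)
    {T L : Type*} [CommRing T] [AddCommGroup L] [Module T L]
    (t : Γ(X, V) →+* T) (hpT : (p : T) = 0) {δ : T →+ L} (leib : ∀ a b, δ (a * b) = a • δ b + b • δ a)
    (hf : ∀ r, δ (t (co f V r)) = 0) :
    ∃ (D : ι → ι → Γ(X, V) →+ T) (E : ι → Γ(X, V) →+ L),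
      (∀ i j, TwDer p t (Set.range (co f V)) (D i j)) ∧ (∀ i, TwDer p t (Set.range (co f V)) (E i)) ∧
      (∀ i j a, E j a - E i a = δ (D i j a)) ∧ (∀ i j l a, D i j a + D j l a = D i l a) ∧
      (∀ i l, E i (y i l) = t (y i l) ^ (p - 1) • δ (t (y i l))) ∧
      (∀ i j (x : P (H.G V)), D i j x.1.2 = t (lam j x - lam i x)) := by
  have hL := H.lftV hV
  choose D hD hDx using fun i j => exists_D hL.surj hL.ker H.lft.surj (H.hρ V) t (hlam i) (hlam j)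
  choose E hE hEx using fun i => exists_E hL.surj hL.ker H.lft.surj (H.hρ V) t hpT leib
    (H.const hV t hpT leib hf) hf (hlam i)
  refine ⟨D, E, hD, hE, fun i j a => ?_, fun i j l a => ?_, fun i l => ?_, hDx⟩
  · obtain ⟨x, rfl⟩ := H.exists_lift hV a
    rw [hEx, hEx, hDx, map_sub, map_sub]
    abel
  · obtain ⟨x, rfl⟩ := H.exists_lift hV a
    rw [hDx, hDx, hDx, ← map_add]
    congr 1
    abel
  · rw [← hxt, hEx, h0, map_zero, map_zero, add_zero]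

section mk

variable {A : Type u} [CommRing A] [CharP A p] {φ : R →+* A} {Y Y' : Scheme.{u}} [FrobSch.IsCharP Y p] {g : Y ⟶ X}
  {q : Y ⟶ Spec (CommRingCat.of A)} {wA : Y' ⟶ Y} {q' : Y' ⟶ Spec (CommRingCat.of A)} {FA : Y ⟶ Y'}
  (hg : IsPullback g q f (Spec.map (CommRingCat.ofHom φ))) (HT : IsTw p q wA q' FA)
  {Ω₁ : Y.Modules} {δ : OmegaSh.Der q Ω₁} (hδ : OmegaSh.IsUniversal δ)
  {Ω₂ : Y'.Modules} {δ' : OmegaSh.Der q' Ω₂} (hδ' : OmegaSh.IsUniversal δ')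

/-- Pull-back of functions to `Y`. -/
noncomputable abbrev tt (g : Y ⟶ X) (V : X.Opens) : Γ(X, V) →+* Γ(Y, g ⁻¹ᵁ V) := (g.appLE V (g ⁻¹ᵁ V) le_rfl).hom

include hg in
theorem tt_co (V : X.Opens) (r : R) : tt g V (co f V r) = co q (g ⁻¹ᵁ V) (φ r) := co_comp hg.w _ r

omit hp [CharP R p] in
theorem tt_res {V W : X.Opens} (h : W ≤ V) (h' : g ⁻¹ᵁ W ≤ g ⁻¹ᵁ V) (a : Γ(X, V)) :
    resO Y h' (tt g V a) = tt g W (resO X h a) := res_appLE g le_rfl le_rfl h h' a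

/-- The data over `V`. -/
noncomputable def mkTop {V : X.Opens} (y₀ : Y) (hy₀ : y₀ ∈ g ⁻¹ᵁ V) {d : ℕ} {ι : Type*} (y : ι → Fin d → Γ(X, V))
    (hy : ∀ i, EtCh f d V (y i))
    (D : ι → ι → Γ(X, V) →+ Γ(Y, g ⁻¹ᵁ V)) (E : ι → Γ(X, V) →+ Sec Ω₁ (g ⁻¹ᵁ V))
    (hD : ∀ i j, TwDer p (tt g V) (Set.range (co f V)) (D i j))
    (hE : ∀ i, TwDer p (tt g V) (Set.range (co f V)) (E i))
    (hDE : ∀ i j a, E j a - E i a = K922.DSec.dS δ (g ⁻¹ᵁ V) (D i j a))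
    (hcoc : ∀ i j l a, D i j a + D j l a = D i l a)
    (hEy : ∀ i l, E i (y i l) = tt g V (y i l) ^ (p - 1) • K922.DSec.dS δ (g ⁻¹ᵁ V) (tt g V (y i l))) :
    Top p ι Γ(X, V) Γ(Y', wA ⁻¹ᵁ (g ⁻¹ᵁ V)) Γ(Y, g ⁻¹ᵁ V) (Sec Ω₂ (wA ⁻¹ᵁ (g ⁻¹ᵁ V))) (Sec Ω₁ (g ⁻¹ᵁ V)) (Fin d) where
  φ := gF HT.geo (g ⁻¹ᵁ V)
  δ := K922.DSec.dS δ (g ⁻¹ᵁ V)
  δ' := K922.DSec.dS δ' (wA ⁻¹ᵁ (g ⁻¹ᵁ V))
  σ := (gw wA (g ⁻¹ᵁ V)).comp (tt g V)
  π := tt g V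
  hφσ a := gF_gw HT.geo (g ⁻¹ᵁ V) _
  leib' := K922.DSec.dS_mul δ' _
  y := y
  e i := bas hδ ((hy i).baseChange hg)
  e' i := bas hδ' (HT.etCh ((hy i).baseChange hg))
  chart i := HT.rchart hδ y₀ hy₀ ((hy i).baseChange hg)
  he' i l := bas_apply hδ' _ l
  K := Set.range (co f V)
  hK := by
    rintro _ ⟨r, rfl⟩
    rw [RingHom.comp_apply, tt_co hg, HT.gw_co, ← map_pow, dS_co]
  D := D
  E := E
  hD := hD
  hE := hE
  hDE := hDE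
  hcoc := hcoc
  hEy := hEy
  uT i := by
    have : Nonempty (g ⁻¹ᵁ V) := ⟨⟨y₀, hy₀⟩⟩
    have : CharP Γ(Y, g ⁻¹ᵁ V) p := K224.RelCov.charP_of _
    exact uniq_of_etale _ _ _ (hy i).et _
  uL i := by
    have : Nonempty (g ⁻¹ᵁ V) := ⟨⟨y₀, hy₀⟩⟩
    have : CharP Γ(Y, g ⁻¹ᵁ V) p := K224.RelCov.charP_of _
    exact uniq_of_etale _ _ _ (hy i).et _

end mk

end K776.RTop
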