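import Groth.Agent.DelIll.K776.RCh
import Groth.Agent.DelIll.K776.RLam
import Groth.Agent.DelIll.K224.RelCov

/-!
# The Frobenius twist over an affine base
-/

set_option autoImplicit false
universe u

open CategoryTheory CategoryTheory.Limits AlgebraicGeometry Opposite TopologicalSpace
open Groth.Agent.Sga67.Sec Groth.Agent.Sga67.LocBasis
open K905.GeoX K905.GeoUp K922.Coord K224.RelGD K224.RelBase K224.RelCartier K776.RCh

namespace K776.RTw

section co

theorem co_comp {Y Y' : Scheme.{u}} {A B : Type u} [CommRing A] [CommRing B] {φ : A →+* B} {h : Y' ⟶ Y}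
    {q : Y ⟶ Spec (CommRingCat.of A)} {q' : Y' ⟶ Spec (CommRingCat.of B)}
    (H : h ≫ q = q' ≫ Spec.map (CommRingCat.ofHom φ)) {U : Y.Opens} {U' : Y'.Opens} (e : U' ≤ h ⁻¹ᵁ U) (a : A) :
    (h.appLE U U' e).hom (co q U a) = co q' U' (φ a) := by
  have e1 : U' ≤ (h ≫ q) ⁻¹ᵁ ⊤ := le_top
  have e2 : U' ≤ (q' ≫ Spec.map (CommRingCat.ofHom φ)) ⁻¹ᵁ ⊤ := le_top
  refine (appLE_appLE h q (le_top : U ≤ q ⁻¹ᵁ ⊤) e e1 _).trans ?_
  refine (appLE_eq H e1 e2 _).trans ?_
  refine (appLE_appLE q' (Spec.map (CommRingCat.ofHom φ)) (le_top : (⊤ : (Spec (CommRingCat.of B)).Opens) ≤ _)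
    (le_top : U' ≤ q' ⁻¹ᵁ ⊤) e2 _).symm.trans ?_
  refine congrArg (q'.appLE ⊤ U' le_top).hom ?_
  have h3 : (Spec.map (CommRingCat.ofHom φ)).appLE ⊤ ⊤ le_top = (Spec.map (CommRingCat.ofHom φ)).appTop :=
    Scheme.Hom.appLE_eq_app _
  rw [h3]
  exact (congr($(Scheme.ΓSpecIso_inv_naturality (CommRingCat.ofHom φ)).hom a)).symm

theorem co_comp' {Y Y' : Scheme.{u}} {A : Type u} [CommRing A] {h : Y' ⟶ Y}
    {q : Y ⟶ Spec (CommRingCat.of A)} {q' : Y' ⟶ Spec (CommRingCat.of A)}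
    (H : h ≫ q = q') {U : Y.Opens} {U' : Y'.Opens} (e : U' ≤ h ⁻¹ᵁ U) (a : A) :
    (h.appLE U U' e).hom (co q U a) = co q' U' a := by
  have e1 : U' ≤ (h ≫ q) ⁻¹ᵁ ⊤ := le_top
  exact (appLE_appLE h q (le_top : U ≤ q ⁻¹ᵁ ⊤) e e1 _).trans (appLE_eq H e1 _ _)

/-- Derivations kill the constants. -/
theorem dS_co {Y : Scheme.{u}} {A : Type u} [CommRing A] {q : Y ⟶ Spec (CommRingCat.of A)} {Ω' : Y.Modules}
    (d : OmegaSh.Der q Ω') (U : Y.Opens) (a : A) : K922.DSec.dS d U (co q U a) = 0 :=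
  K922.DSec.dS_appLE (d := d) (V := ⊤) (U := U) le_top ((Scheme.ΓSpecIso (CommRingCat.of A)).inv.hom a)

/-- The absolute Frobenius of the spectrum of a ring. -/
theorem frob_spec (p : ℕ) [hp : Fact p.Prime] (A : Type u) [CommRing A] [CharP A p] :
    FrobSch.frob (Spec (CommRingCat.of A)) p = Spec.map (CommRingCat.ofHom (frobenius A p)) := by
  refine ext_of_isAffine ?_
  refine CommRingCat.hom_ext (RingHom.ext fun s => ?_)
  obtain ⟨a, rfl⟩ : ∃ a, (Scheme.ΓSpecIso (CommRingCat.of A)).inv.hom a = s :=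
    ⟨(Scheme.ΓSpecIso (CommRingCat.of A)).hom.hom s, by simp⟩
  have h2 := congrArg (fun t => CommRingCat.Hom.hom t a)
    (Scheme.ΓSpecIso_inv_naturality (CommRingCat.ofHom (frobenius A p)))
  refine (FrobSch.frob_appTop _ p _).trans (Eq.trans ?_ h2)
  change _ = (Scheme.ΓSpecIso (CommRingCat.of A)).inv.hom (frobenius A p a)
  rw [frobenius_def, map_pow]

end co

section bas

variable {Y : Scheme.{u}} {A : Type u} [CommRing A] {q : Y ⟶ Spec (CommRingCat.of A)} {d : ℕ} {Ω' : Y.Modules}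
  {δ : OmegaSh.Der q Ω'} (hδ : OmegaSh.IsUniversal δ) {U : Y.Opens} {v : Fin d → Γ(Y, U)} (h : EtCh q d U v)

include hδ h in
theorem isLocBasis : IsLocBasis (fun j => K922.DSec.dS δ U (v j)) := h.isCoord.isLocBasis (K922.Univ.affUniv hδ)

/-- The basis of differentials. -/
noncomputable def bas : Module.Basis (Fin d) Γ(Y, U) (Sec Ω' U) := (isLocBasis hδ h).basis le_rfl

theorem bas_apply (j : Fin d) : bas hδ h j = K922.DSec.dS δ U (v j) := by
  rw [bas, IsLocBasis.basis_apply, res_self]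

end bas

section tw

variable (p : ℕ) [hp : Fact p.Prime] {A : Type u} [CommRing A] [CharP A p] {Y Y' : Scheme.{u}}
  [FrobSch.IsCharP Y p] (q : Y ⟶ Spec (CommRingCat.of A)) (w : Y' ⟶ Y) (q' : Y' ⟶ Spec (CommRingCat.of A)) (F : Y ⟶ Y')

/-- The twist and relative Frobenius over `A`. -/
structure IsTw : Prop where
  pb : IsPullback w q' q (Spec.map (CommRingCat.ofHom (frobenius A p)))
  F1 : F ≫ w = FrobSch.frob Y p
  F2 : F ≫ q' = q

variable {p q w q'} in
theorem exists_isTw (pb : IsPullback w q' q (Spec.map (CommRingCat.ofHom (frobenius A p)))) :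
    ∃ F : Y ⟶ Y', IsTw p q w q' F := by
  have h1 : FrobSch.frob Y p ≫ q = q ≫ Spec.map (CommRingCat.ofHom (frobenius A p)) := by
    rw [← frob_spec p A]
    exact FrobSch.frob_comp _ _
  exact ⟨pb.lift _ _ h1, pb, pb.lift_fst _ _ _, pb.lift_snd _ _ _⟩

variable {p q w q' F} (H : IsTw p q w q' F)

include H in
theorem IsTw.geo : IsGeo p q w q' F (𝟙 Y') q' (𝟙 _) where
  tw := by
    rw [frob_spec p A]
    exact H.pb
  F1 := H.F1
  F2 := H.F2
  w := by rw [Category.id_comp, Category.comp_id]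
  hi := Topology.IsOpenEmbedding.id

theorem IsTw.gF_co (U : Y.Opens) (a : A) : gF H.geo U (co q' (w ⁻¹ᵁ U) a) = co q U a :=
  co_comp' H.F2 _ a

include H in
theorem IsTw.gw_co (U : Y.Opens) (a : A) : gw w U (co q U a) = co q' (w ⁻¹ᵁ U) a ^ p := by
  rw [← map_pow]
  exact co_comp H.pb.w _ a

/-- Charts. -/
theorem IsTw.rchart {d : ℕ} {Ω' : Y.Modules} {δ : OmegaSh.Der q Ω'} (hδ : OmegaSh.IsUniversal δ) {U : Y.Opens}
    (y₀ : Y) (hy₀ : y₀ ∈ U) {v : Fin d → Γ(Y, U)} (h : EtCh q d U v) :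
    RChart p (gF H.geo U) v (K922.DSec.dS δ U) (bas hδ h) where
  pbasis := by
    have : Nonempty U := ⟨⟨y₀, hy₀⟩⟩
    have : CharP Γ(Y, U) p := K224.RelCov.charP_of U
    refine K224.RelPB.isRPB_of_etale_coord p (co q U) v h.et (gw w U) (co q' (w ⁻¹ᵁ U)) ?_ (gF H.geo U)
      (gF_gw H.geo U) (H.gF_co U)
    exact (isPushout_co H.pb h.aff).flip
  leib b c := K922.DSec.dS_mul δ U b c
  const c := by
    have : Nonempty (⊤ : (Spec (CommRingCat.of A)).Opens) := ⟨⟨q y₀, trivial⟩⟩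
    have : CharP Γ(Spec (CommRingCat.of A), ⊤) p := K224.RelCov.charP_of ⊤
    exact K224.RelCov.const (δ := δ) H.geo h.aff (isAffineOpen_top _) le_top c
  ex j := (bas_apply hδ h j).symm

include H in
/-- The chart on the twist. -/
theorem IsTw.etCh {d : ℕ} {U : Y.Opens} {v : Fin d → Γ(Y, U)} (h : EtCh q d U v) :
    EtCh q' d (w ⁻¹ᵁ U) (fun j => gw w U (v j)) := h.baseChange H.pb

include H in
/-- Relative Frobenius is surjective. -/
theorem IsTw.surjective : Function.Surjective F := by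
  have : FrobSch.IsCharP Y' p := FrobSch.IsCharP.of_hom w p
  have h1 : w ≫ F = FrobSch.frob Y' p := by
    refine H.pb.hom_ext ?_ ?_
    · rw [Category.assoc, H.F1, FrobSch.frob_comp]
    · rw [Category.assoc, H.F2, H.pb.w, ← frob_spec p A, FrobSch.frob_comp]
  intro y
  refine ⟨w y, ?_⟩
  change (w ≫ F) y = y
  rw [h1]
  rfl

include H in
theorem IsTw.preimage (U : Y.Opens) : F ⁻¹ᵁ (w ⁻¹ᵁ U) = U := by
  ext y
  change (F ≫ w) y ∈ U ↔ _
  rw [H.F1]
  rfl

include H in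
/-- Restrictions on the twist are injective if they are injective on `Y`. -/
theorem IsTw.resO_injective {d : ℕ} {Ω' : Y.Modules} {δ : OmegaSh.Der q Ω'} (hδ : OmegaSh.IsUniversal δ)
    {U V : Y.Opens} (y₀ : Y) (hy₀ : y₀ ∈ U)
    {v : Fin d → Γ(Y, U)} (h : EtCh q d U v) (hV : V ≤ U) (hinj : Function.Injective (resO Y hV))
    (hV' : w ⁻¹ᵁ V ≤ w ⁻¹ᵁ U) : Function.Injective (resO Y' hV') := by
  have h1 := (H.rchart hδ y₀ hy₀ h).pbasis.1
  have hF : Function.Injective (gF H.geo U) := by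
    intro a b hab
    have h2 := @h1 (Pi.single 0 a) (Pi.single 0 b) (by
      change ∑ _, _ = ∑ _, _
      refine Finset.sum_congr rfl fun i _ => ?_
      by_cases hi : i = 0
      · subst hi
        rw [Pi.single_eq_same, Pi.single_eq_same, hab]
      · rw [Pi.single_eq_of_ne hi, Pi.single_eq_of_ne hi])
    have h3 := congrFun h2 0
    rwa [Pi.single_eq_same, Pi.single_eq_same] at h3
  intro a b hab
  apply hF
  apply hinj
  have h4 : ∀ a, resO Y hV (gF H.geo U a) = gF H.geo V (resO Y' hV' a) := fun a =>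
    res_appLE F (le_F H.geo U) (le_F H.geo V) hV' hV a
  rw [h4, h4, hab]

end tw

end K776.RTw
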